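import Cfsg.Agent.H146.KW.Tools

/-!
# S4243, own characteristic: the good prime of a group of Lie type

`Good p t G`: `t` divides `|G|`, the Sylow `t`-subgroups of `G` are cyclic and `t` does not divide the
order of a proper subgroup of index prime to `p` (a proper parabolic subgroup).
-/

set_option autoImplicit false

open Subgroup

namespace Cfsg.Agent.H331.KW

universe u

/-- `t` is a good prime of the group `G` of characteristic `p` -/
structure Good (p t : ℕ) (G : Type*) [Group G] : Prop where
  prime : t.Prime
  dvd : t ∣ Nat.card G
  cyc : ∀ P : Sylow t G, IsCyclic P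
  par : ∀ L : Subgroup G, L ≠ ⊤ → ¬ p ∣ L.index → ¬ t ∣ Nat.card L

theorem Good.of_equiv {p t : ℕ} {G G' : Type*} [Group G] [Group G'] [Finite G] (e : G ≃* G')
    (h : Good p t G) : Good p t G' where
  prime := h.prime
  dvd := by rw [← Nat.card_congr e.toEquiv]; exact h.dvd
  cyc P := by
    have hfin : Finite G' := Finite.of_equiv _ e.toEquiv
    have : Fact t.Prime := ⟨h.prime⟩
    let Q : Sylow t G := P.comapOfInjective e.toMonoidHom e.injective (by
      intro x _
      exact ⟨e.symm x, e.apply_symm_apply x⟩)
    have hQ := h.cyc Q
    have hm : (P : Subgroup G') = (Q : Subgroup G).map e.toMonoidHom := by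
      have h2 : (Q : Subgroup G) = (P : Subgroup G').comap e.toMonoidHom := rfl
      rw [h2, Subgroup.map_comap_eq_self_of_surjective e.surjective]
    have e1 : (Q : Subgroup G) ≃* ((Q : Subgroup G).map e.toMonoidHom) :=
      (Q : Subgroup G).equivMapOfInjective e.toMonoidHom e.injective
    have h1 : IsCyclic ((Q : Subgroup G).map e.toMonoidHom) :=
      isCyclic_of_surjective e1 e1.surjective
    change IsCyclic (P : Subgroup G')
    rw [hm]
    exact h1
  par L hL hi hd := by
    refine h.par (L.comap e.toMonoidHom) ?_ ?_ ?_
    · intro h1
      apply hL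
      rw [eq_top_iff]
      intro x _
      have : e.symm x ∈ L.comap e.toMonoidHom := h1 ▸ Subgroup.mem_top _
      have h2 : e (e.symm x) ∈ L := this
      rwa [e.apply_symm_apply] at h2
    · rw [Subgroup.index_comap_of_surjective _ e.surjective]
      exact hi
    · have e1 : (L.comap e.toMonoidHom) ≃* L :=
        ((L.comap e.toMonoidHom).equivMapOfInjective e.toMonoidHom e.injective).trans
          (MulEquiv.subgroupCongr (Subgroup.map_comap_eq_self_of_surjective e.surjective L))
      rw [Nat.card_congr e1.toEquiv]
      exact hd

end Cfsg.Agent.H331.KW
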