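import Cfsg.Agent.H331.KW.Own
import Cfsg.Agent.H146.KW.Reduction
import Cfsg.Agent.Mrg.Omega.ML.Ex.Typ.List
import Cfsg.Agent.H146.KW.GoodCl
import Cfsg.Agent.H146.KW.GoodPlus

/-!
# S4243, own characteristic: the rows of the classical groups of Witt index at least 3
-/

set_option autoImplicit false
set_option linter.unusedSectionVars false

namespace Cfsg.Agent.H331.KW.RowsCl

open Cfsg Cfsg.Agent.H331.KW Cfsg.Agent.Omega.ML.Ex.Typ Cfsg.Agent.H146.KW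
open Cfsg.Agent.FixBN Cfsg.Agent.Tits.Core

universe u

/-- the own characteristic part (defeq to `H786.KW.OwnNo`) -/
def OwnNo (r : ℕ) (G : Type u) [Group G] : Prop :=
  ∀ H : Subgroup G, IsSimpleGroup H → ¬ IsMulCommutative H → H ≠ ⊤ → PSubAll H → r ∣ Nat.card H → False

theorem OwnNo.of_equiv {r : ℕ} {G G' : Type*} [Group G] [Group G'] [Finite G] [Finite G'] (e : G ≃* G')
    (h : OwnNo r G') : OwnNo r G := by
  intro H hs hc ht hK hd
  have eH : H ≃* H.map e.toMonoidHom := H.equivMapOfInjective e.toMonoidHom e.injective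
  refine h (H.map e.toMonoidHom) ?_ ?_ ?_ ?_ ?_
  · exact (MulEquiv.isSimpleGroup_congr eH).mp hs
  · intro hc'
    apply hc
    exact ⟨⟨fun a b => eH.injective (by rw [map_mul, map_mul]; exact hc'.is_comm.comm _ _)⟩⟩
  · intro h1
    apply ht
    rw [eq_top_iff]
    intro x _
    obtain ⟨y, hy, hyx⟩ : e x ∈ H.map e.toMonoidHom := h1 ▸ Subgroup.mem_top _
    exact e.injective hyx ▸ hy
  · intro p hp
    exact (hK p).map_equiv e
  · rw [← Nat.card_congr eH.toEquiv]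
    exact hd

variable {K : Type u} [Group K] [Finite K] [IsSimpleGroup K] {p : ℕ} [hp : Fact p.Prime] {t : ℕ}

theorem own_B {n : ℕ} (hn : 3 ≤ n) (hK : HasRGDT p (CoxeterMatrix.B n) K) (ht : Good p t K) : OwnNo p K := by
  obtain ⟨P, U, e, hS, hT⟩ := hK.hasSplitT hp.out (by omega)
  intro H _ _ hne hP hd
  have : Fact t.Prime := ⟨ht.prime⟩
  exact hne (eq_top_B hn hS hT ht (hP p) (hP t) hd)

theorem own_laced {n : ℕ} (hn : 0 < n) {M : CoxeterMatrix (Fin n)}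
    (hM : ∀ i k, i = k ∨ M i k = 2 ∨ M i k = 3 ∨ ∃ j, M i j = 3 ∧ M j k = 2)
    (hK : HasRGDT p M K) (ht : Good p t K) : OwnNo p K := by
  obtain ⟨P, U, e, hS, hT⟩ := hK.hasSplitT hp.out hn
  have : Nonempty (Fin n) := ⟨⟨0, hn⟩⟩
  intro H _ _ hne hP hd
  have : Fact t.Prime := ⟨ht.prime⟩
  exact hne (eq_top_laced hS hT hM ht (hP p) (hP t) hd)

/-! ### `PSp` and `PSU` -/

theorem own_psp {F : Type*} [Field F] [Fintype F] {m : ℕ} (hm : 3 ≤ m) (h6 : ¬ (Fintype.card F = 2 ∧ m = 3))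
    [CharP F p] [IsSimpleGroup (PSp m F)] : OwnNo p (PSp m F) := by
  obtain ⟨t, -, ht⟩ := GoodCl.psp (F := F) (p := p) (show 2 ≤ m by omega) h6
  exact own_B hm (typ_PSp (by omega)) ht

theorem own_psu {F : Type*} [Field F] [Fintype F] {q N : ℕ} (hF : Fintype.card F = q ^ 2) (hN : 6 ≤ N)
    [CharP F p] [IsSimpleGroup (PSU N F q)] : OwnNo p (PSU N F q) := by
  obtain ⟨t, -, ht⟩ := GoodCl.psu (F := F) (p := p) hF (show 3 ≤ N by omega) (by omega) (by omega)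
  obtain ⟨m, hm, hT⟩ := typ_PSU (p := p) hF (show 3 ≤ N by omega)
  exact own_B (by omega) hT ht

/-! ### orthogonal groups -/

section Orthogonal

open QuadraticMap
open Cfsg.Agent.LieClassical Cfsg.Agent.LieClassical.OrthCore Cfsg.Agent.LieClassical.OrthTrans
open Cfsg.Agent.LieClassical.OrthSimple Cfsg.Agent.LieClassical.OrthFinite
open Cfsg.Agent.LieClassical.OrthForms
open Cfsg.Agent.TitsThree Cfsg.Agent.TitsThree.KSideO Cfsg.Agent.TitsThree.StdData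
open Cfsg.Agent.Nodes Cfsg.Agent.Nodes.WittAll Cfsg.Agent.Nodes.WittU Cfsg.Agent.Nodes.WittInst
  Cfsg.Agent.TitsThree.Siegel Cfsg.Agent.TitsThree.SiegelGen
  Cfsg.Agent.TitsThree.WittFrame Cfsg.Agent.TitsThree.WBridge Cfsg.Agent.TitsThree.WittWeyl
  Cfsg.Agent.TitsThree.FrameCN

/-- **`PΩ_{2m+1}(F)`** -/
theorem typ_PO_odd {F : Type*} [Field F] [Finite F] (h2 : (2 : F) ≠ 0) {m : ℕ} (hm : 2 ≤ m) [CharP F p] :
    HasRGDT p (CoxeterMatrix.B m) (Cfsg.POmega F (Cfsg.quadFormOdd m F)) := by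
  rw [← coe_oddForm]
  have hG : Cfsg.Agent.LieClassical.OrthTrans.Good (oddForm m F) := by
    apply good_of_finite (nondeg_oddForm m F h2)
    rw [Module.finrank_fintype_fun_eq_card, Fintype.card_sum, Fintype.card_sum, Fintype.card_fin,
      Fintype.card_unit]
    omega
  have hp : ((embOdd m F).ngt ⟨1, -1 ^ 2, rfl⟩).c ≠ 0 := by
    change (1 : F)⁻¹ * (-1 ^ 2) ≠ 0
    simp
  exact typ_C (model (wodd m F) hG ⟨_, hp⟩) (AmbT.of_amb (amb_O_of_two _ h2) p) hp (by omega)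

end Orthogonal

theorem two_ne_zero_of_odd {F : Type*} [Field F] [Fintype F] (hodd : Odd (Fintype.card F)) : (2 : F) ≠ 0 := by
  intro h2
  have h3 : CharP F 2 := CharTwo.of_one_ne_zero_of_two_eq_zero one_ne_zero h2
  have h4 : 2 ∣ Fintype.card F := by
    rw [← CharP.cast_eq_zero_iff F 2]
    exact FiniteField.cast_card_eq_zero F
  exact (Nat.not_even_iff_odd.2 hodd) (even_iff_two_dvd.2 h4)

theorem own_po_odd {F : Type*} [Field F] [Fintype F] (hodd : Odd (Fintype.card F)) {m : ℕ} (hm : 3 ≤ m)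
    [CharP F p] [IsSimpleGroup (Cfsg.POmega F (Cfsg.quadFormOdd m F))] :
    OwnNo p (Cfsg.POmega F (Cfsg.quadFormOdd m F)) := by
  obtain ⟨t, -, ht⟩ := GoodCl.po_odd (F := F) (p := p) hodd hm
  exact own_B hm (typ_PO_odd (two_ne_zero_of_odd hodd) (by omega)) ht

theorem own_po_minus {F : Type*} [Field F] [Fintype F] {m : ℕ} (a b : F)
    (hab : ∀ z₁ z₂ : F, z₁ ^ 2 + a * z₁ * z₂ + b * z₂ ^ 2 = 0 → z₁ = 0 ∧ z₂ = 0) (hm : 4 ≤ m)
    [CharP F p] [IsSimpleGroup (Cfsg.POmega F (Cfsg.quadFormMinus (m - 1) F a b))] :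
    OwnNo p (Cfsg.POmega F (Cfsg.quadFormMinus (m - 1) F a b)) := by
  obtain ⟨t, -, ht⟩ := GoodCl.po_minus (F := F) (p := p) a b hab hm
  exact own_B (show 3 ≤ m - 1 by omega) (typ_PO_minus hab (by omega)) ht

theorem laced_D' (n : ℕ) (i k : Fin (n + 2)) : i = k ∨ Nodes.TypeD.M n i k = 2 ∨ Nodes.TypeD.M n i k = 3 ∨
    ∃ j, Nodes.TypeD.M n i j = 3 ∧ Nodes.TypeD.M n j k = 2 := by
  rw [Nodes.TypeD.M_apply]
  split_ifs <;> simp_all

theorem own_po_plus {F : Type*} [Field F] [Fintype F] {m : ℕ} (hm : 4 ≤ m) (h6 : ¬ (Fintype.card F = 2 ∧ m = 4))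
    [CharP F p] [IsSimpleGroup (Cfsg.POmega F (Cfsg.quadFormPlus m F))] :
    OwnNo p (Cfsg.POmega F (Cfsg.quadFormPlus m F)) := by
  obtain ⟨t, -, ht⟩ := GoodCl.po_plus (F := F) (p := p) hm h6
  obtain ⟨n, rfl⟩ : ∃ n, m = n + 3 := ⟨m - 3, by omega⟩
  exact own_laced (by omega) (laced_D' (n + 1)) (typ_PO_plus n) ht

end Cfsg.Agent.H331.KW.RowsCl
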