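import Cfsg.Agent.FixBN.Defs
import Cfsg.Agent.FixBN.Gates
import Cfsg.Agent.Tits.Generic

/-!
# S4243, own characteristic: the chambers and the Sylow subgroups of `H`

`S : Sys Δ G p`, `H ≤ G` such that `Q x = U x ∩ H` is a Sylow `p`-subgroup of `H` for every chamber `x`.
A panel is trivial (`Triv`) if `Q` is constant on it; otherwise `H` is transitive on it.
-/

set_option autoImplicit false
set_option linter.unusedSectionVars false

namespace Cfsg.Agent.H331.KW.Cham

open Cfsg.Agent.FixBN Cfsg.Agent.Tits Cfsg.Agent.Tits.Core Cfsg.Agent.Tits.Core.Bldg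

section Basic

variable {I : Type*} {M : CoxeterMatrix I} {W : Type*} [Group W] {cs : CoxeterSystem M W} {C : Type*}
  {Δ : Bldg cs C} {G : Type*} [Group G] [MulAction G C] {p : ℕ}
  (S : Sys Δ G p) (H : Subgroup G)

/-- the Sylow subgroup of `H` attached to the chamber `x` -/
def Q (x : C) : Subgroup G := S.U x ⊓ H

/-- every `Q x` is a Sylow subgroup of `H` -/
def Hyp : Prop := ∀ x, ¬ p ∣ (S.U x).relIndex H

variable {S H}

theorem conj_mem_U (g : G) {u : G} {x : C} (hu : u ∈ S.U x) : g * u * g⁻¹ ∈ S.U (g • x) := by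
  refine S.max (g • x) ((S.U x).map (MulAut.conj g).toMonoidHom) ((S.isP x).map _) ?_
    ⟨u, hu, by simp⟩
  rintro _ ⟨v, hv, rfl⟩
  have h1 : (MulAut.conj g).toMonoidHom v = g * v * g⁻¹ := by simp
  rw [h1, mul_smul, mul_smul, inv_smul_smul, S.fix x v hv]

theorem mem_Q_smul {k : G} (hk : k ∈ H) {u : G} {x : C} : u ∈ Q S H (k • x) ↔ k⁻¹ * u * k ∈ Q S H x := by
  constructor
  · rintro ⟨h1, h2⟩
    refine ⟨?_, H.mul_mem (H.mul_mem (H.inv_mem hk) h2) hk⟩
    have := conj_mem_U (S := S) k⁻¹ h1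
    rwa [inv_smul_smul, inv_inv] at this
  · rintro ⟨h1, h2⟩
    have e : u = k * (k⁻¹ * u * k) * k⁻¹ := by group
    refine ⟨?_, ?_⟩
    · rw [e]; exact conj_mem_U k h1
    · rw [e]; exact H.mul_mem (H.mul_mem hk h2) (H.inv_mem hk)

theorem Q_le_H (x : C) : Q S H x ≤ H := inf_le_right

theorem fix_of_mem {x : C} {u : G} (hu : u ∈ Q S H x) : u • x = x := S.fix x u hu.1

theorem le_Q_of_fix {x y : C} {V : Subgroup G} (hV : V ≤ Q S H x) (h : ∀ v ∈ V, v • y = y) : V ≤ Q S H y :=
  le_inf (S.max y V ((S.isP x).to_le (hV.trans inf_le_left)) h) (hV.trans inf_le_right)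

theorem mem_Q_of_fix {x y : C} {u : G} (hu : u ∈ Q S H x) (h : u • y = y) : u ∈ Q S H y := by
  refine le_Q_of_fix (V := Subgroup.zpowers u) (by rw [Subgroup.zpowers_le]; exact hu) (fun v hv => ?_)
    (Subgroup.mem_zpowers u)
  have h1 : Subgroup.zpowers u ≤ MulAction.stabilizer G y := by
    rw [Subgroup.zpowers_le]; exact h
  exact h1 hv

theorem relIndex_Q (x : C) : (Q S H x).relIndex H = (S.U x).relIndex H := by
  unfold Q
  exact Subgroup.inf_relIndex_right _ _

/-- the Sylow subgroup of `K` -/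
theorem not_dvd_index (hH : Hyp S H) {K : Subgroup G} (hK : K ≤ H) {x : C} (hx : Q S H x ≤ K) :
    ¬ p ∣ ((Q S H x).subgroupOf K).index := by
  intro hd
  apply hH x
  rw [← relIndex_Q, ← Subgroup.relIndex_mul_relIndex _ K H hx hK]
  exact hd.mul_right _

variable [Finite G] [hp : Fact p.Prime]

theorem exists_smul (hH : Hyp S H) {K : Subgroup G} (hK : K ≤ H) {x y : C} (hx : Q S H x ≤ K)
    (hy : Q S H y ≤ K) : ∃ k ∈ K, Q S H (k • x) = Q S H y := by
  have isP : ∀ z, IsPGroup p (Q S H z) := fun z => (S.isP z).to_le inf_le_left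
  let Px : Sylow p K := ((isP x).comap_of_injective K.subtype K.subtype_injective).toSylow
    (not_dvd_index hH hK hx)
  let Py : Sylow p K := ((isP y).comap_of_injective K.subtype K.subtype_injective).toSylow
    (not_dvd_index hH hK hy)
  obtain ⟨k, hk⟩ := MulAction.exists_smul_eq K Px Py
  refine ⟨k, k.2, ?_⟩
  ext u
  rw [mem_Q_smul (hK k.2)]
  constructor
  · intro hu
    have h1 : (k : G)⁻¹ * u * k ∈ K := hx hu
    have huK : u ∈ K := by
      have e : u = k * ((k : G)⁻¹ * u * k) * (k : G)⁻¹ := by group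
      rw [e]; exact mul_mem (mul_mem k.2 h1) (inv_mem k.2)
    have h2 : (⟨u, huK⟩ : K) ∈ (k • Px : Sylow p K) := by
      rw [Gates.mem_smul_iff]
      exact hu
    rw [hk] at h2
    exact h2
  · intro hu
    have huK : u ∈ K := hy hu
    have h2 : (⟨u, huK⟩ : K) ∈ Py := hu
    rw [← hk, Gates.mem_smul_iff] at h2
    exact h2

theorem card_Q (hH : Hyp S H) (x y : C) : Nat.card (Q S H x) = Nat.card (Q S H y) := by
  obtain ⟨k, hk, h⟩ := exists_smul hH le_rfl (Q_le_H x) (Q_le_H y)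
  rw [← h]
  have e : Q S H (k • x) = (Q S H x).map (MulAut.conj k).toMonoidHom := by
    ext u
    rw [mem_Q_smul hk]
    constructor
    · intro h
      refine ⟨_, h, ?_⟩
      simp only [MulEquiv.coe_toMonoidHom, MulAut.conj_apply]
      group
    · rintro ⟨v, hv, rfl⟩
      have : k⁻¹ * ((MulAut.conj k).toMonoidHom v) * k = v := by
        simp only [MulEquiv.coe_toMonoidHom, MulAut.conj_apply]
        group
      rw [this]; exact hv
  rw [e]
  exact Nat.card_congr ((Q S H x).equivMapOfInjective _ (MulAut.conj k).injective).toEquiv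

theorem Q_eq_of_fix (hH : Hyp S H) {x y : C} (h : ∀ u ∈ Q S H x, u • y = y) : Q S H x = Q S H y :=
  Subgroup.eq_of_le_of_card_ge (le_Q_of_fix le_rfl h) (card_Q hH x y).symm.le

omit [Finite G] hp in
theorem fix_of_eq {x y : C} (h : Q S H y = Q S H x) {u : G} (hu : u ∈ Q S H x) : u • y = y :=
  fix_of_mem (h ▸ hu)

end Basic

section Panels

variable {I : Type*} {M : CoxeterMatrix I} {W : Type*} [Group W] {cs : CoxeterSystem M W} {C : Type*}
  {Δ : Bldg cs C} {G : Type*} [Group G] [MulAction G C] {p : ℕ}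
  {S : Sys Δ G p} {H : Subgroup G}

variable (S) in
/-- the stabiliser of the residue -/
def stR (J : Set I) (x : C) : Subgroup G where
  carrier := {g | g • x ∈ Δ.Res J x}
  one_mem' := by
    change (1 : G) • x ∈ Δ.Res J x
    rw [one_smul]; exact Δ.self_mem_Res J x
  mul_mem' := by
    intro a b ha hb
    change (a * b) • x ∈ Δ.Res J x
    have hb' : b • x ∈ Δ.Res J x := hb
    rw [mul_smul]
    refine Δ.mem_Res_trans (y := a • x) ha ?_
    rw [mem_Res, S.iso]
    exact hb'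
  inv_mem' := by
    intro a ha
    change a⁻¹ • x ∈ Δ.Res J x
    have ha' : a • x ∈ Δ.Res J x := ha
    have h1 : Δ.δ (a⁻¹ • x) x = Δ.δ x (a • x) := by
      conv_rhs => rw [← S.iso a⁻¹ x (a • x), inv_smul_smul]
    refine Δ.mem_Res_symm ?_
    rw [mem_Res, h1]
    exact ha'

theorem mem_stR {J : Set I} {x : C} {g : G} : g ∈ stR S J x ↔ g • x ∈ Δ.Res J x := Iff.rfl

theorem smul_mem_Res {J : Set I} {x y : C} {g : G} (hg : g ∈ stR S J x) (hy : y ∈ Δ.Res J x) :
    g • y ∈ Δ.Res J x := by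
  refine Δ.mem_Res_trans (y := g • x) hg ?_
  rw [mem_Res, S.iso]
  exact hy

include S in
theorem smul_mem_Res' {J : Set I} {x y : C} (g : G) (hy : y ∈ Δ.Res J x) : g • y ∈ Δ.Res J (g • x) := by
  rw [mem_Res, S.iso]
  exact hy

include S in
theorem smul_mem_Pan {i : I} {x y : C} (g : G) (hy : y ∈ Δ.Pan i x) : g • y ∈ Δ.Pan i (g • x) := by
  rw [Pan_eq_Res] at hy ⊢
  exact smul_mem_Res' (S := S) g hy

theorem mem_stR_of_fix {J : Set I} {x y : C} (hy : y ∈ Δ.Res J x) {g : G} (hg : g • y = y) :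
    g ∈ stR S J x := by
  rw [mem_stR]
  have h1 : g • x ∈ Δ.Res J y := by
    have := smul_mem_Res' (S := S) g (Δ.mem_Res_symm hy)
    rwa [hg] at this
  exact Δ.mem_Res_trans hy h1

variable (S H) in
/-- `Q` is constant on the `i`-panel of `x` -/
def Triv (i : I) (x : C) : Prop := ∀ z ∈ Δ.Pan i x, Q S H z = Q S H x

theorem Triv.congr {i : I} {x y : C} (h : Triv S H i x) (hy : y ∈ Δ.Pan i x) : Triv S H i y := by
  intro z hz
  rw [Pan_eq_of_mem Δ hy] at hz
  rw [h z hz, h y hy]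

theorem triv_iff {i : I} {x y : C} (hy : y ∈ Δ.Pan i x) : Triv S H i y ↔ Triv S H i x :=
  ⟨fun h => h.congr (Δ.mem_Pan_symm hy), fun h => h.congr hy⟩

theorem Triv.fix {i : I} {x y : C} (h : Triv S H i x) (hy : y ∈ Δ.Pan i x) {u : G} (hu : u ∈ Q S H x) :
    u • y = y := fix_of_eq (h y hy) hu

theorem Triv.smul {i : I} {x : C} {k : G} (hk : k ∈ H) (h : Triv S H i x) : Triv S H i (k • x) := by
  intro z hz
  have h1 : k⁻¹ • z ∈ Δ.Pan i x := by
    have := smul_mem_Pan (S := S) k⁻¹ hz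
    rwa [inv_smul_smul] at this
  have h2 := h _ h1
  ext u
  rw [mem_Q_smul hk, ← h2, mem_Q_smul (inv_mem hk), inv_inv]
  have e : k * (k⁻¹ * u * k) * k⁻¹ = u := by group
  rw [e]

variable [Finite G] [hp : Fact p.Prime]

theorem triv_of_ne (hH : Hyp S H) {i : I} {x y : C} (hy : y ∈ Δ.Pan i x) (hne : y ≠ x)
    (h : Q S H y = Q S H x) : Triv S H i x := by
  intro z hz
  symm
  refine Q_eq_of_fix hH fun u hu => ?_
  have h1 : Δ.δ x y = cs.simple i := by
    rcases hy with h | h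
    · exact absurd h hne
    · exact h
  exact S.pan x y i h1 u hu.1 (fix_of_eq h hu) z hz

/-- **Panel lemma.** `H` is transitive on a panel which is not trivial. -/
theorem exists_smul_eq (hH : Hyp S H) {i : I} {x y : C} (h : ¬ Triv S H i x) (hy : y ∈ Δ.Pan i x) :
    ∃ k ∈ H, k • x = y := by
  have hy' : y ∈ Δ.Res {i} x := by rwa [← Pan_eq_Res]
  obtain ⟨k, hk, hq⟩ := exists_smul hH (K := H ⊓ stR S {i} x) inf_le_left (x := x) (y := y)
    (le_inf (Q_le_H x) fun u hu => mem_stR_of_fix (Δ.self_mem_Res _ x) (fix_of_mem hu))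
    (le_inf (Q_le_H y) fun u hu => mem_stR_of_fix hy' (fix_of_mem hu))
  refine ⟨k, hk.1, ?_⟩
  by_contra hne
  have h1 : k • x ∈ Δ.Pan i y := by
    rw [Pan_eq_Res]
    exact Δ.mem_Res_trans (Δ.mem_Res_symm hy') hk.2
  exact h ((triv_of_ne hH h1 hne hq).congr (Δ.mem_Pan_symm hy))

theorem transfer (hH : Hyp S H) {i j : I} {x y : C} (h : ¬ Triv S H j x) (hy : y ∈ Δ.Pan j x)
    (hi : Triv S H i x) : Triv S H i y := by
  obtain ⟨k, hk, rfl⟩ := exists_smul_eq hH h hy
  exact hi.smul hk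

omit [Finite G] hp in
theorem Q_const {J : Set I} {x : C} (h : ∀ z ∈ Δ.Res J x, ∀ j ∈ J, Triv S H j z) :
    ∀ z ∈ Δ.Res J x, Q S H z = Q S H x := by
  intro z hz
  refine Δ.Res_induction (p := fun z => Q S H z = Q S H x) rfl ?_ hz
  intro y hy w i hi hd hq
  rw [← hq]
  exact h y hy i hi w (Δ.mem_Pan_of_δ hd)

omit [Finite G] hp in
theorem triv_of_const {J : Set I} {x : C} (h : ∀ z ∈ Δ.Res J x, Q S H z = Q S H x) {z : C}
    (hz : z ∈ Δ.Res J x) {j : I} (hj : j ∈ J) : Triv S H j z := by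
  intro w hw
  rw [h z hz, h w (Δ.mem_Res_trans hz (Δ.Pan_subset_Res hj z hw))]

variable [F : OppRes.Cox cs]

omit [Finite G] hp in
include S in
/-- a group element fixing `x` and `y` fixes the chambers between them -/
theorem fix_step {x y z : C} {i : I} {u : G} (hx : u • x = x) (hy : u • y = y) (hz : Δ.δ y z = cs.simple i)
    (hxz : Δ.δ x z = Δ.δ x y * cs.simple i) (hl : cs.length (Δ.δ x y * cs.simple i) < cs.length (Δ.δ x y)) :
    u • z = z := by
  have h3 : Δ.δ x (u • z) = Δ.δ x y * cs.simple i := by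
    rw [← hxz]
    conv_lhs => rw [← hx]
    exact S.iso u x z
  have h4 : Δ.δ y (u • z) = cs.simple i := by
    rw [← hz]
    conv_lhs => rw [← hy]
    exact S.iso u y z
  refine Rigid.eq_of_short (Δ := Δ) (j := i) h3 hxz ?_ ?_
  · rw [mul_assoc, cs.simple_mul_simple_self, mul_one]
    exact hl
  · have h6 : u • z ∈ Δ.Pan i y := Or.inr h4
    have h7 : z ∈ Δ.Pan i y := Or.inr hz
    have h8 := Δ.mem_Pan_trans (Δ.mem_Pan_symm h6) h7
    exact Rigid.mem_Pan_Res h8

/-- **opposite chambers of a residue with the same `Q`** -/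
theorem opp_const (hth : Δ.Thick) (hH : Hyp S H) {J : Set I} {c d : C} (hd : Δ.δ c d = wJ cs J)
    (hq : Q S H d = Q S H c) : ∀ z ∈ Δ.Res J c, Q S H z = Q S H c := by
  intro z hz
  symm
  refine Q_eq_of_fix hH fun u hu => ?_
  have hud : u • d = d := fix_of_eq hq hu
  have huc : u • c = c := fix_of_mem hu
  have hagree : Rigid.Agree Δ (fun z => u • z) (fun z => z) J c := by
    intro i hi w hw
    obtain ⟨d', hd1, hd2⟩ := Δ.exists_step d c i
    have hfix : u • d' = d' := by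
      refine fix_step (S := S) (x := d) (y := c) (i := i) hud huc hd1 hd2 ?_
      have h1 := F.len_wJ_mul (OppRes.simple_mem_WJ (cs := cs) hi)
      rw [cs.length_simple] at h1
      rw [Δ.symm c d, hd, F.wJ_inv]
      omega
    exact S.pan c d' i hd1 u hu.1 hfix w hw
  exact Rigid.rigid hth (φ := fun z => u • z) (ψ := fun z => z) (fun a _ b _ => S.iso u a b)
    (fun a _ b _ => rfl) hagree hd hud z hz

/-- the fibres of `Q` are contained in residues of the type of the trivial panels -/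
theorem mem_Res_of_eq (hH : Hyp S H) {J : Set I} (hA : ∀ i, i ∉ J → ∀ z, ¬ Triv S H i z) {x y : C}
    (h : Q S H y = Q S H x) : y ∈ Δ.Res J x := by
  induction hn : cs.length (Δ.δ x y) using Nat.strong_induction_on generalizing y with
  | _ n ih =>
    by_cases h1 : Δ.δ x y = 1
    · rw [← (Δ.eq_one x y).1 h1]; exact Δ.self_mem_Res J x
    obtain ⟨i, hi⟩ := cs.exists_rightDescent_of_ne_one h1
    obtain ⟨z, hz, hxz⟩ := Δ.exists_step x y i
    have hl : cs.length (Δ.δ x y * cs.simple i) < cs.length (Δ.δ x y) := hi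
    have hq : Q S H x = Q S H z := Q_eq_of_fix hH fun u hu =>
      fix_step (S := S) (fix_of_mem hu) (fix_of_eq h hu) hz hxz hl
    have hzy : z ∈ Δ.Pan i y := Δ.mem_Pan_of_δ hz
    have hT : Triv S H i y := triv_of_ne hH hzy (Δ.ne_of_δ_simple hz).symm (by rw [← hq, h])
    have hiJ : i ∈ J := by
      by_contra hc
      exact hA i hc y hT
    have h2 := ih (cs.length (Δ.δ x z)) (by rw [hxz, ← hn]; exact hl) hq.symm rfl
    exact Δ.mem_Res_trans h2 (Δ.Pan_subset_Res hiJ z (Δ.mem_Pan_symm hzy))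

end Panels

end Cfsg.Agent.H331.KW.Cham
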