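import Cfsg.Agent.H331.KW.RankTwo
import Cfsg.Agent.H331.KW.Good

/-!
# S4243, own characteristic: counting

The fibres of `Q` are permuted transitively by `H`; their number divides `|H|`. If the fibres are residues (or, more
generally, have order prime to the good prime `t`) then `t` divides `|H|`.
-/

set_option autoImplicit false
set_option linter.unusedSectionVars false

namespace Cfsg.Agent.H331.KW.Cham

open Cfsg.Agent.FixBN Cfsg.Agent.Tits Cfsg.Agent.Tits.Core Cfsg.Agent.Tits.Core.Bldg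
open scoped Pointwise

section Count

variable {I : Type*} {M : CoxeterMatrix I} {W : Type*} [Group W] {cs : CoxeterSystem M W}
  {C : Type*} {Δ : Bldg cs C} {G : Type*} [Group G] [Finite G] [MulAction G C] {p : ℕ} [hp : Fact p.Prime]
  {S : Sys Δ G p} {H : Subgroup G}

/-- the number of the fibres divides `|H|` -/
theorem card_range_dvd (hH : Hyp S H) (x : C) : Nat.card (Set.range (Q S H)) ∣ Nat.card H := by
  let _ : MulAction H (Subgroup G) := MulAction.compHom _ (MulAut.conj.comp H.subtype)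
  have key : ∀ (k : H) (y : C), k • Q S H y = Q S H ((k : G) • y) := by
    intro k y
    ext u
    change u ∈ MulAut.conj (k : G) • Q S H y ↔ _
    rw [mem_Q_smul k.2, Subgroup.mem_pointwise_smul_iff_inv_smul_mem]
    have e : (MulAut.conj (k : G))⁻¹ • u = (k : G)⁻¹ * u * k := by
      rw [← map_inv, MulAut.smul_def, MulAut.conj_apply, inv_inv]
    rw [e]
  have h1 : Set.range (Q S H) = MulAction.orbit H (Q S H x) := by
    ext K
    constructor
    · rintro ⟨y, rfl⟩
      obtain ⟨k, hk, h⟩ := exists_smul hH le_rfl (Q_le_H x) (Q_le_H y)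
      exact ⟨⟨k, hk⟩, by rw [← h]; exact key ⟨k, hk⟩ x⟩
    · rintro ⟨k, rfl⟩
      exact ⟨(k : G) • x, (key k x).symm⟩
  rw [h1, Nat.card_congr (MulAction.orbitEquivQuotientStabilizer H (Q S H x))]
  exact Subgroup.card_quotient_dvd_card _

theorem card_fibre (hH : Hyp S H) (x y : C) :
    Nat.card {z // Q S H z = Q S H y} = Nat.card {z // Q S H z = Q S H x} := by
  obtain ⟨k, hk, h⟩ := exists_smul hH le_rfl (Q_le_H x) (Q_le_H y)
  have key : ∀ {a b : C} {g : G}, g ∈ H → Q S H a = Q S H b → Q S H (g • a) = Q S H (g • b) := by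
    intro a b g hg hab
    ext u
    rw [mem_Q_smul hg, mem_Q_smul hg, hab]
  refine (Nat.card_congr ?_).symm
  refine ⟨fun z => ⟨k • z.1, by rw [key hk z.2, h]⟩, fun z => ⟨k⁻¹ • z.1, ?_⟩, fun z => ?_, fun z => ?_⟩
  · have h1 : Q S H z.1 = Q S H (k • x) := by rw [z.2, h]
    have h2 := key (H.inv_mem hk) h1
    rwa [inv_smul_smul] at h2
  · apply Subtype.ext; exact inv_smul_smul k z.1
  · apply Subtype.ext; exact smul_inv_smul k z.1

theorem card_chambers [Finite C] (hH : Hyp S H) (x : C) :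
    Nat.card C = Nat.card (Set.range (Q S H)) * Nat.card {z // Q S H z = Q S H x} := by
  classical
  have := Fintype.ofFinite C
  have := Fintype.ofFinite (Set.range (Q S H))
  rw [Nat.card_congr (Equiv.sigmaFiberEquiv (Set.rangeFactorization (Q S H))).symm, Nat.card_sigma]
  have h1 : ∀ r : Set.range (Q S H), Nat.card {z // Set.rangeFactorization (Q S H) z = r} =
      Nat.card {z // Q S H z = Q S H x} := by
    rintro ⟨_, y, rfl⟩
    rw [← card_fibre hH x y]
    refine Nat.card_congr (Equiv.subtypeEquivRight fun z => ?_)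
    rw [Subtype.ext_iff]
    rfl
  simp only [h1]
  rw [Finset.sum_const, smul_eq_mul, Finset.card_univ, Nat.card_eq_fintype_card (α := Set.range (Q S H))]

theorem dvd_of_fibre [Finite C] (hH : Hyp S H) {t : ℕ} (ht : t.Prime) (x : C) (hC : t ∣ Nat.card C)
    (hF : ¬ t ∣ Nat.card {z // Q S H z = Q S H x}) : t ∣ Nat.card H := by
  rw [card_chambers hH x, ht.dvd_mul] at hC
  exact (hC.resolve_right hF).trans (card_range_dvd hH x)

/-! ### The stabilisers of the residues -/

variable [htr : MulAction.IsPretransitive G C]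

omit hp in
theorem exists_sylow_le (x : C) : ∃ P : Sylow p G, (P : Subgroup G) ≤ S.U x := by
  obtain ⟨P⟩ : Nonempty (Sylow p G) := inferInstance
  obtain ⟨x0, hx0⟩ := S.exists_fix P P.isPGroup'
  obtain ⟨g, rfl⟩ := htr.exists_smul_eq x0 x
  refine ⟨g • P, ?_⟩
  intro u hu
  have h1 : g⁻¹ * u * g ∈ (P : Subgroup G) := by
    have := hu
    rw [Sylow.coe_subgroup_smul, Subgroup.mem_pointwise_smul_iff_inv_smul_mem] at this
    have e : (MulAut.conj g)⁻¹ • u = g⁻¹ * u * g := by
      rw [← map_inv, MulAut.smul_def, MulAut.conj_apply, inv_inv]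
    rwa [e] at this
  have h2 : g⁻¹ * u * g ∈ S.U x0 := S.max x0 P P.isPGroup' hx0 h1
  have h3 := conj_mem_U (S := S) g h2
  have e : g * (g⁻¹ * u * g) * g⁻¹ = u := by group
  rwa [e] at h3

theorem exists_sylow_eq (x : C) : ∃ P : Sylow p G, (P : Subgroup G) = S.U x := by
  obtain ⟨P, hP⟩ := exists_sylow_le (S := S) x
  exact ⟨P, (P.is_maximal' (S.isP x) hP).symm⟩

theorem hyp_of_psub (h : H146.KW.PSub p H) : Hyp S H := by
  intro x
  obtain ⟨P, hP⟩ := exists_sylow_eq (S := S) x
  rw [← hP]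
  exact h P

theorem not_dvd_index_stR {J : Set I} (x : C) : ¬ p ∣ (stR S J x).index := by
  obtain ⟨P, hP⟩ := exists_sylow_eq (S := S) x
  have h1 : (P : Subgroup G) ≤ stR S J x := by
    intro u hu
    rw [hP] at hu
    exact mem_stR_of_fix (Δ.self_mem_Res J x) (S.fix x u hu)
  intro hd
  exact P.not_dvd_index (hd.trans (Subgroup.index_dvd_of_le h1))

omit [Finite G] hp in
theorem orbit_stR {J : Set I} (x : C) : MulAction.orbit (stR S J x) x = Δ.Res J x := by
  ext y
  constructor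
  · rintro ⟨g, rfl⟩
    exact g.2
  · intro hy
    obtain ⟨g, hg⟩ := htr.exists_smul_eq x y
    exact ⟨⟨g, by rw [mem_stR, hg]; exact hy⟩, hg⟩

omit hp in
theorem card_Res_dvd {J : Set I} (x : C) : Nat.card (Δ.Res J x) ∣ Nat.card (stR S J x) := by
  rw [← orbit_stR (S := S), Nat.card_congr (MulAction.orbitEquivQuotientStabilizer (stR S J x) x)]
  exact Subgroup.card_quotient_dvd_card _

variable [F : OppRes.Cox cs]

omit [Finite G] hp in
theorem stR_ne_top {J : Set I} (hJ : J ≠ Set.univ) (x : C) : stR S J x ≠ ⊤ := by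
  intro h
  apply hJ
  rw [Set.eq_univ_iff_forall]
  intro i
  obtain ⟨y, hy⟩ := Δ.exists_δ x (cs.simple i)
  obtain ⟨g, rfl⟩ := htr.exists_smul_eq x y
  have h1 : g ∈ stR S J x := h ▸ Subgroup.mem_top g
  rw [mem_stR, mem_Res, hy] at h1
  exact F.descent_mem J _ h1 i (by rw [cs.simple_mul_simple_self, cs.length_one, cs.length_simple]; omega)

theorem not_dvd_stR {t : ℕ} (hpar : ∀ L : Subgroup G, L ≠ ⊤ → ¬ p ∣ L.index → ¬ t ∣ Nat.card L)
    {J : Set I} (hJ : J ≠ Set.univ) (x : C) : ¬ t ∣ Nat.card (stR S J x) :=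
  hpar _ (stR_ne_top hJ x) (not_dvd_index_stR x)

include S in
theorem not_dvd_Res {t : ℕ} (hpar : ∀ L : Subgroup G, L ≠ ⊤ → ¬ p ∣ L.index → ¬ t ∣ Nat.card L)
    {J : Set I} (hJ : J ≠ Set.univ) (x : C) : ¬ t ∣ Nat.card (Δ.Res J x) := fun hd =>
  not_dvd_stR (S := S) hpar hJ x (hd.trans (card_Res_dvd x))

include S in
theorem dvd_card_C {t : ℕ} (ht : t.Prime) [Nonempty I] (x : C) (hG : t ∣ Nat.card G)
    (hpar : ∀ L : Subgroup G, L ≠ ⊤ → ¬ p ∣ L.index → ¬ t ∣ Nat.card L) : t ∣ Nat.card C := by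
  have h1 : MulAction.stabilizer G x ≤ stR S ∅ x := fun g hg =>
    mem_stR_of_fix (Δ.self_mem_Res ∅ x) hg
  have h2 : ¬ t ∣ Nat.card (MulAction.stabilizer G x) := fun hd =>
    not_dvd_stR (S := S) hpar (Set.empty_ne_univ) x (hd.trans (Subgroup.card_dvd_of_le h1))
  have h3 := (MulAction.stabilizer G x).card_mul_index
  rw [MulAction.index_stabilizer_of_transitive] at h3
  rw [← h3, ht.dvd_mul] at hG
  exact hG.resolve_left h2

/-! ### `Q` is not trivial -/

omit htr in
theorem not_const (hH : Hyp S H) (hd : p ∣ Nat.card H) (x : C) : ¬ ∀ y, Q S H y = Q S H x := by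
  intro h
  obtain ⟨y, hy⟩ := Δ.exists_δ x (w0 cs)
  have h1 : Q S H x = ⊥ := by
    rw [eq_bot_iff]
    intro u hu
    exact Subgroup.mem_bot.2 (S.free x y hy u hu.1 (fix_of_eq (h y) hu))
  apply hH x
  rw [← relIndex_Q, h1, Subgroup.relIndex_bot_left]
  exact hd

/-- **Constant type**: if the triviality of the panels depends only on their type then `t` divides `|H|` -/
theorem main_const [Finite C] [Nonempty I] (hH : Hyp S H) (hd : p ∣ Nat.card H) [Nonempty C] {t : ℕ} (ht : t.Prime)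
    (hG : t ∣ Nat.card G) (hpar : ∀ L : Subgroup G, L ≠ ⊤ → ¬ p ∣ L.index → ¬ t ∣ Nat.card L)
    (hc : ∀ i x y, Triv S H i x → Triv S H i y) : t ∣ Nat.card H := by
  obtain ⟨x⟩ := (inferInstance : Nonempty C)
  let J : Set I := {i | Triv S H i x}
  have h1 : ∀ y, Q S H y = Q S H x ↔ y ∈ Δ.Res J x := by
    intro y
    constructor
    · intro h
      exact mem_Res_of_eq hH (fun i hi z hz => hi (hc i z x hz)) h
    · intro h
      exact Q_const (fun z _ j hj => hc j x z hj) y h
  have hJ : J ≠ Set.univ := by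
    intro hJ
    apply not_const hH hd x
    intro y
    rw [h1, hJ, Δ.Res_univ]
    trivial
  refine dvd_of_fibre hH ht x (dvd_card_C (S := S) ht x hG hpar) ?_
  have h2 : Nat.card {z // Q S H z = Q S H x} = Nat.card (Δ.Res J x) :=
    Nat.card_congr (Equiv.subtypeEquivRight h1)
  rw [h2]
  exact not_dvd_Res (S := S) hpar hJ x

omit htr F in
theorem const_of_step {i : I} (h : ∀ k x y, y ∈ Δ.Pan k x → Triv S H i x → Triv S H i y) (x y : C)
    (hx : Triv S H i x) : Triv S H i y := by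
  refine Δ.Res_induction (J := Set.univ) (x := x) (p := fun y => Triv S H i y) hx ?_
    (by rw [Δ.Res_univ]; trivial)
  intro y _ z k _ hd hT
  exact h k y z (Δ.mem_Pan_of_δ hd) hT

end Count

section Types

variable {I : Type*} [Finite I] {M : CoxeterMatrix I} {W : Type*} [Group W] [Finite W] {cs : CoxeterSystem M W}
  {C : Type*} {Δ : Bldg cs C} {G : Type*} [Group G] [Finite G] [MulAction G C] {p : ℕ} [hp : Fact p.Prime]
  {S : Sys Δ G p} {H : Subgroup G}

/-- the step in direction `k` -/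
theorem step (hth : Δ.Thick) (hH : Hyp S H) {i k : I}
    (hik : i = k ∨ M i k = 2 ∨ M i k = 3 ∨ ∃ j, M i j = 3 ∧ M j k = 2) {x y : C} (hy : y ∈ Δ.Pan k x)
    (hx : Triv S H i x) : Triv S H i y := by
  rcases hik with rfl | h2 | h3 | ⟨j, h3, h2⟩
  · exact hx.congr hy
  · exact comm_triv hH h2 hy hx
  · exact (laced_all hth hH h3 (Or.inl hx) y (Δ.Pan_subset_Res (by simp) x hy)).1
  · have h4 : Triv S H j x := (laced_all hth hH h3 (Or.inl hx) x (Δ.self_mem_Res _ x)).2
    have h5 : Triv S H j y := comm_triv hH h2 hy h4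
    exact (laced_all hth hH h3 (Or.inr h5) y (Δ.self_mem_Res _ y)).1

/-- the types `A_n`, `D_n`, `E_n`, `F_4` -/
theorem main_laced [Finite C] [Nonempty I] [MulAction.IsPretransitive G C] (hth : Δ.Thick) (hH : Hyp S H)
    (hd : p ∣ Nat.card H) [Nonempty C] {t : ℕ} (ht : t.Prime)
    (hG : t ∣ Nat.card G) (hpar : ∀ L : Subgroup G, L ≠ ⊤ → ¬ p ∣ L.index → ¬ t ∣ Nat.card L)
    (hM : ∀ i k, i = k ∨ M i k = 2 ∨ M i k = 3 ∨ ∃ j, M i j = 3 ∧ M j k = 2) : t ∣ Nat.card H :=
  main_const hH hd ht hG hpar fun i x y hx =>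
    const_of_step (fun k _ _ hyz hT => step hth hH (hM i k) hyz hT) x y hx

end Types

end Cfsg.Agent.H331.KW.Cham
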