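import Cfsg.Agent.Tits.Generic

/-!
# S4243, own characteristic: parabolic subgroups of type `A` in the Coxeter group of type `B_n`

`A n j k` : the nodes `j ≤ i < k`. Cosets and double cosets of the parabolic subgroups inside the parabolic subgroup
of the nodes `j, …, n - 2`.
-/

set_option autoImplicit false

namespace Cfsg.Agent.H331.KW.CoxB

open Cfsg.Agent.Tits Cfsg.Agent.Tits.Core

variable {n : ℕ} {W : Type*} [Group W] (cs : CoxeterSystem (CoxeterMatrix.B n) W)

/-- the nodes `j ≤ i < k` -/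
def A (n j k : ℕ) : Set (Fin n) := {i | j ≤ i.val ∧ i.val < k}

theorem mem_A {j k : ℕ} {i : Fin n} : i ∈ A n j k ↔ j ≤ i.val ∧ i.val < k := Iff.rfl

theorem A_mono {j j' k k' : ℕ} (h : j' ≤ j) (h' : k ≤ k') : A n j k ⊆ A n j' k' :=
  fun _ hi => ⟨h.trans hi.1, lt_of_lt_of_le hi.2 h'⟩

theorem B_eq (i j : Fin n) : (CoxeterMatrix.B n) i j = if i = j then 1
      else (if (i : ℕ) = n - 1 ∧ (j : ℕ) = n - 2 ∨ (j : ℕ) = n - 1 ∧ (i : ℕ) = n - 2 then 4
        else (if (j : ℕ) + 1 = i ∨ (i : ℕ) + 1 = j then 3 else 2)) := rfl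

theorem B_two {i j : Fin n} (h : i.val + 1 < j.val ∨ j.val + 1 < i.val) : (CoxeterMatrix.B n) i j = 2 := by
  have h0 : i ≠ j := by rintro rfl; omega
  rw [B_eq, if_neg h0, if_neg (by omega), if_neg (by omega)]

theorem B_three {i j : Fin n} (h : i.val + 1 = j.val ∨ j.val + 1 = i.val) (hi : i.val < n - 1)
    (hj : j.val < n - 1) : (CoxeterMatrix.B n) i j = 3 := by
  have h0 : i ≠ j := by rintro rfl; omega
  rw [B_eq, if_neg h0, if_neg (by omega), if_pos (by omega)]

theorem B_four {a b : Fin n} (hn : 2 ≤ n) (ha : a.val = n - 2) (hb : b.val = n - 1) :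
    (CoxeterMatrix.B n) a b = 4 := by
  have h0 : a ≠ b := by rintro rfl; omega
  rw [B_eq, if_neg h0, if_pos (by omega)]

/-- the simple reflections, indexed by the natural numbers -/
noncomputable def sg (i : ℕ) : W := if h : i < n then cs.simple ⟨i, h⟩ else 1

theorem sg_eq {i : ℕ} (h : i < n) : sg cs i = cs.simple ⟨i, h⟩ := dif_pos h

theorem sg_val (i : Fin n) : sg cs i.val = cs.simple i := sg_eq cs i.2

theorem sg_sq (i : ℕ) : sg cs i * sg cs i = 1 := by
  unfold sg
  split_ifs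
  · exact cs.simple_mul_simple_self _
  · exact one_mul 1

theorem sg_comm {i j : ℕ} (h : i + 1 < j) : sg cs i * sg cs j = sg cs j * sg cs i := by
  unfold sg
  split_ifs with h1 h2
  · exact Generic.braid_two cs (B_two (Or.inl h))
  · rw [mul_one, one_mul]
  · rw [mul_one, one_mul]
  · rfl

theorem sg_braid {i : ℕ} (h : i + 1 < n - 1) :
    sg cs i * sg cs (i + 1) * sg cs i = sg cs (i + 1) * sg cs i * sg cs (i + 1) := by
  rw [sg_eq cs (show i < n by omega), sg_eq cs (show i + 1 < n by omega)]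
  exact Generic.braid_three cs (B_three (Or.inl rfl) (by simp only; omega) (by simp only; omega))

theorem sg_mem {j k i : ℕ} (h1 : j ≤ i) (h2 : i < k) (hn : i < n) : sg cs i ∈ WJ cs (A n j k) := by
  rw [sg_eq cs hn]
  exact Subgroup.subset_closure ⟨⟨i, hn⟩, ⟨h1, h2⟩, rfl⟩

theorem WJ_le {j j' k k' : ℕ} (h : j' ≤ j) (h' : k ≤ k') : WJ cs (A n j k) ≤ WJ cs (A n j' k') :=
  Subgroup.closure_mono (Set.image_mono (A_mono h h'))

/-- `s_i s_{i+1} ⋯ s_{i+d-1}` -/
noncomputable def cc (i : ℕ) : ℕ → W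
  | 0 => 1
  | d + 1 => cc i d * sg cs (i + d)

theorem cc_zero (i : ℕ) : cc cs i 0 = 1 := rfl

theorem cc_succ (i d : ℕ) : cc cs i (d + 1) = cc cs i d * sg cs (i + d) := rfl

theorem cc_left (i d : ℕ) : cc cs i (d + 1) = sg cs i * cc cs (i + 1) d := by
  induction d with
  | zero => rw [cc_succ, cc_zero, cc_zero, one_mul, mul_one, add_zero]
  | succ d ih =>
    rw [cc_succ, ih, cc_succ, mul_assoc]
    congr 3
    omega

theorem cc_add (i d e : ℕ) : cc cs i (d + e) = cc cs i d * cc cs (i + d) e := by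
  induction e with
  | zero => rw [cc_zero, mul_one, add_zero]
  | succ e ih => rw [← add_assoc, cc_succ, ih, cc_succ, mul_assoc, add_assoc]

theorem cc_mem {i d j k : ℕ} (h1 : j ≤ i) (h2 : i + d ≤ k) (hk : k ≤ n) : cc cs i d ∈ WJ cs (A n j k) := by
  induction d with
  | zero => exact one_mem _
  | succ d ih => exact mul_mem (ih (by omega)) (sg_mem cs (by omega) (by omega) (by omega))

theorem comm_right {i d l : ℕ} (h : i + d < l) : sg cs l * cc cs i d = cc cs i d * sg cs l := by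
  induction d with
  | zero => rw [cc_zero, mul_one, one_mul]
  | succ d ih =>
    rw [cc_succ, ← mul_assoc, ih (by omega), mul_assoc, mul_assoc, sg_comm cs (show i + d + 1 < l by omega)]

theorem comm_left {i d l : ℕ} (h : l + 1 < i) : sg cs l * cc cs i d = cc cs i d * sg cs l := by
  induction d with
  | zero => rw [cc_zero, mul_one, one_mul]
  | succ d ih =>
    rw [cc_succ, ← mul_assoc, ih, mul_assoc, mul_assoc, sg_comm cs (show l + 1 < i + d by omega)]

/-- the braid relation for the cycles -/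
theorem shift {i d l : ℕ} (hd : i + d ≤ n - 1) (h1 : i ≤ l) (h2 : l + 1 < i + d) :
    sg cs (l + 1) * cc cs i d = cc cs i d * sg cs l := by
  induction d with
  | zero => omega
  | succ d ih =>
    rcases Nat.lt_or_ge (l + 1) (i + d) with h3 | h3
    · rw [cc_succ, ← mul_assoc, ih (by omega) h3, mul_assoc, mul_assoc, sg_comm cs (show l + 1 < i + d by omega)]
    · obtain rfl : d = l + 1 - i := by omega
      obtain ⟨e, rfl⟩ : ∃ e, l = i + e := ⟨l - i, by omega⟩
      have e1 : i + e + 1 - i = e + 1 := by omega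
      rw [e1, cc_succ, cc_succ]
      have e2 : i + (e + 1) = i + e + 1 := by omega
      rw [e2, ← mul_assoc, ← mul_assoc, comm_right cs (show i + e < i + e + 1 by omega)]
      have hb := sg_braid cs (i := i + e) (by omega)
      calc cc cs i e * sg cs (i + e + 1) * sg cs (i + e) * sg cs (i + e + 1)
          = cc cs i e * (sg cs (i + e + 1) * sg cs (i + e) * sg cs (i + e + 1)) := by group
        _ = cc cs i e * (sg cs (i + e) * sg cs (i + e + 1) * sg cs (i + e)) := by rw [hb]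
        _ = cc cs i e * sg cs (i + e) * sg cs (i + e + 1) * sg cs (i + e) := by group

/-- **Cosets.** -/
theorem cos {j m : ℕ} (hjm : j ≤ m) (hm : m ≤ n - 1) {v : W} (hv : v ∈ WJ cs (A n j m)) :
    ∃ i d, j ≤ i ∧ i + d = m ∧ ∃ w ∈ WJ cs (A n j (m - 1)), v = cc cs i d * w := by
  have key : ∀ (l : Fin n), l ∈ A n j m → ∀ v, (∃ i d, j ≤ i ∧ i + d = m ∧ ∃ w ∈ WJ cs (A n j (m - 1)),
      v = cc cs i d * w) → ∃ i d, j ≤ i ∧ i + d = m ∧ ∃ w ∈ WJ cs (A n j (m - 1)),
      cs.simple l * v = cc cs i d * w := by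
    rintro ⟨l, hl⟩ ⟨h1, h2⟩ v ⟨i, d, hi, hid, w, hw, rfl⟩
    change j ≤ l at h1
    change l < m at h2
    rw [← sg_eq cs hl]
    rcases Nat.lt_trichotomy l i with h3 | h3 | h3
    · rcases Nat.lt_or_ge (l + 1) i with h4 | h4
      · refine ⟨i, d, hi, hid, sg cs l * w, mul_mem (sg_mem cs h1 (by omega) hl) hw, ?_⟩
        rw [← mul_assoc, comm_left cs h4, mul_assoc]
      · obtain rfl : i = l + 1 := by omega
        refine ⟨l, d + 1, h1, by omega, w, hw, ?_⟩
        rw [cc_left, mul_assoc]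
    · subst h3
      obtain ⟨d, rfl⟩ : ∃ e, d = e + 1 := ⟨d - 1, by omega⟩
      refine ⟨l + 1, d, by omega, by omega, w, hw, ?_⟩
      rw [cc_left, ← mul_assoc, ← mul_assoc, sg_sq, one_mul]
    · obtain ⟨l, rfl⟩ : ∃ e, l = e + 1 := ⟨l - 1, by omega⟩
      refine ⟨i, d, hi, hid, sg cs l * w, mul_mem (sg_mem cs (by omega) (by omega) (by omega)) hw, ?_⟩
      rw [← mul_assoc, shift cs (by omega) (by omega) (by omega), mul_assoc]
  unfold WJ at hv
  induction hv using Subgroup.closure_induction_left with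
  | one => exact ⟨m, 0, hjm, by omega, 1, one_mem _, by rw [cc_zero, one_mul]⟩
  | mul_left x hx y hy ih =>
    obtain ⟨l, hl, rfl⟩ := hx
    exact key l hl y ih
  | inv_mul_cancel x hx y hy ih =>
    obtain ⟨l, hl, rfl⟩ := hx
    rw [cs.inv_simple]
    exact key l hl y ih

theorem c1 {a : Fin n} (ha : a.val = n - 2) (hn : 2 ≤ n) {j : ℕ} (hj : j ≤ n - 2) {v : W}
    (hv : v ∈ WJ cs (A n j (n - 1))) : v ∈ WJ cs (A n j (n - 2)) ∨
      ∃ x ∈ WJ cs (A n j (n - 2)), ∃ y ∈ WJ cs (A n j (n - 2)), v = x * cs.simple a * y := by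
  obtain ⟨i, d, hi, hid, w, hw, rfl⟩ := cos cs (by omega) le_rfl hv
  rw [show n - 1 - 1 = n - 2 by omega] at hw
  rcases Nat.eq_zero_or_pos d with rfl | hd
  · left
    rw [cc_zero, one_mul]
    exact hw
  · right
    obtain ⟨d, rfl⟩ : ∃ e, d = e + 1 := ⟨d - 1, by omega⟩
    refine ⟨cc cs i d, cc_mem cs hi (by omega) (by omega), w, hw, ?_⟩
    rw [cc_succ, ← sg_val cs a, ha, show i + d = n - 2 by omega]

theorem conj_shift {j m : ℕ} (hjm : j ≤ m) (hm : m ≤ n - 1) {w : W} (hw : w ∈ WJ cs (A n j (m - 1))) :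
    ∃ w' ∈ WJ cs (A n (j + 1) m), cc cs j (m - j) * w = w' * cc cs j (m - j) := by
  have key : ∀ (l : Fin n), l ∈ A n j (m - 1) → cc cs j (m - j) * cs.simple l =
      sg cs (l.val + 1) * cc cs j (m - j) ∧ sg cs (l.val + 1) ∈ WJ cs (A n (j + 1) m) := by
    intro l hl
    have h1 := hl.1
    have h2 := hl.2
    refine ⟨?_, sg_mem cs (by omega) (by omega) (by omega)⟩
    rw [← sg_val cs l]
    exact (shift cs (by omega) h1 (by omega)).symm
  unfold WJ at hw
  induction hw using Subgroup.closure_induction_right with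
  | one => exact ⟨1, one_mem _, by group⟩
  | mul_right x hx y hy ih =>
    obtain ⟨l, hl, rfl⟩ := hy
    obtain ⟨w', hw', h⟩ := ih
    obtain ⟨h1, h2⟩ := key l hl
    exact ⟨w' * sg cs (l.val + 1), mul_mem hw' h2, by rw [← mul_assoc, h, mul_assoc, h1, mul_assoc]⟩
  | mul_inv_cancel x hx y hy ih =>
    obtain ⟨l, hl, rfl⟩ := hy
    obtain ⟨w', hw', h⟩ := ih
    obtain ⟨h1, h2⟩ := key l hl
    rw [cs.inv_simple]
    exact ⟨w' * sg cs (l.val + 1), mul_mem hw' h2, by rw [← mul_assoc, h, mul_assoc, h1, mul_assoc]⟩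

theorem c2 {a : Fin n} (ha : a.val = n - 2) (hn : 2 ≤ n) {j : ℕ} (hj : j ≤ n - 2) {v : W}
    (hv : v ∈ WJ cs (A n j (n - 1))) :
      (∃ x ∈ WJ cs (A n (j + 1) (n - 1)), ∃ y ∈ WJ cs (A n j (n - 2)), v = x * y) ∨
      (∃ x ∈ WJ cs (A n (j + 1) (n - 1)), ∃ y ∈ WJ cs (A n j (n - 2)), v * cs.simple a = x * y) := by
  obtain ⟨i, d, hi, hid, w, hw, rfl⟩ := cos cs (by omega) le_rfl hv
  rcases Nat.lt_or_ge j i with h | h
  · left
    rw [show n - 1 - 1 = n - 2 by omega] at hw
    exact ⟨cc cs i d, cc_mem cs h (by omega) (by omega), w, hw, rfl⟩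
  · right
    obtain rfl : i = j := by omega
    obtain ⟨w', hw', h1⟩ := conj_shift cs (by omega) le_rfl hw
    obtain rfl : d = n - 1 - i := by omega
    refine ⟨w', hw', cc cs i (n - 2 - i), cc_mem cs le_rfl (by omega) (by omega), ?_⟩
    rw [h1]
    have e : n - 1 - i = (n - 2 - i) + 1 := by omega
    rw [e, cc_succ, show i + (n - 2 - i) = n - 2 by omega, ← sg_val cs a, ha, mul_assoc, mul_assoc, sg_sq, mul_one]

theorem c3 (hn : 2 ≤ n) {k : ℕ} (hk : k ≤ n - 2) {v : W} (hv : v ∈ WJ cs (A n 0 (n - 1))) :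
      ∃ x ∈ WJ cs (A n 0 (n - 1) ∩ {i | i.val ≠ k}), ∃ u ∈ WJ cs (A n k (n - 1)), ∃ y ∈ WJ cs (A n 0 (n - 2)),
        v = x * u * y := by
  obtain ⟨i, d, hi, hid, w, hw, rfl⟩ := cos cs (by omega) le_rfl hv
  rw [show n - 1 - 1 = n - 2 by omega] at hw
  rcases Nat.lt_or_ge k i with h | h
  · refine ⟨cc cs i d, ?_, 1, one_mem _, w, hw, by group⟩
    have h1 : cc cs i d ∈ WJ cs (A n (k + 1) (n - 1)) := cc_mem cs h (by omega) (by omega)
    refine Subgroup.closure_mono (Set.image_mono ?_) h1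
    intro l hl
    have h2 := hl.1
    exact ⟨⟨by omega, hl.2⟩, by change l.val ≠ k; omega⟩
  · refine ⟨cc cs i (k - i), ?_, cc cs k (n - 1 - k), cc_mem cs le_rfl (by omega) (by omega), w, hw, ?_⟩
    · have h1 : cc cs i (k - i) ∈ WJ cs (A n 0 k) := cc_mem cs (by omega) (by omega) (by omega)
      refine Subgroup.closure_mono (Set.image_mono ?_) h1
      intro l hl
      have h2 := hl.2
      exact ⟨⟨by omega, by omega⟩, by change l.val ≠ k; omega⟩
    · have e : d = (k - i) + (n - 1 - k) := by omega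
      rw [e, cc_add, show i + (k - i) = k by omega]

end Cfsg.Agent.H331.KW.CoxB
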