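import Cfsg.Agent.H331.KW.Passive
import Cfsg.Agent.FixBN.OfBN

/-!
# S4243, own characteristic: groups with a split (B,N)-pair

`eq_top_laced`, `eq_top_B`, `eq_top_passive` : a subgroup `H` of a simple group `K` with a split (B,N)-pair of
characteristic `p`, with the Sylow condition for `p` and for the good prime `t` and with `p ∣ |H|`, is `K`.
-/

set_option autoImplicit false
set_option linter.unusedSectionVars false

namespace Cfsg.Agent.H331.KW

open Cfsg.Agent.FixBN Cfsg.Agent.Tits.Core Cfsg.Agent.Tits.Core.Bldg Cfsg.Agent.Tits.OfBN Cfsg.Agent.FixBN.OfBN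

universe u

variable {K : Type u} [Group K] [Finite K] {P : Cfsg.BNPair K} {p : ℕ} {U : Subgroup K}
  {I : Type*} {M : CoxeterMatrix I} {e : I ≃ P.S}

/-- the conclusion: `t ∣ |H|` gives `H = ⊤` -/
theorem eq_top_of_dvd [IsSimpleGroup K] {t : ℕ} (ht : Good p t K) {H : Subgroup K} (hpt : H146.KW.PSub t H)
    (hd : t ∣ Nat.card H) : H = ⊤ := by
  have : Fact t.Prime := ⟨ht.prime⟩
  exact hpt.eq_top_of_isCyclic hd ht.cyc

/-- **the simply laced types and `F_4`** -/
theorem eq_top_laced [IsSimpleGroup K] [Fact p.Prime] [Nonempty I] (hS : Split P p U) (hT : BNType P M e)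
    (hM : ∀ i k, i = k ∨ M i k = 2 ∨ M i k = 3 ∨ ∃ j, M i j = 3 ∧ M j k = 2) {t : ℕ} (ht : Good p t K)
    {H : Subgroup K} (hp : H146.KW.PSub p H) (hpt : H146.KW.PSub t H) (hd : p ∣ Nat.card H) : H = ⊤ := by
  obtain ⟨hN, cs, hcs⟩ := hT
  have hI : Finite I := finite_I e
  refine eq_top_of_dvd ht hpt ?_
  exact Cham.main_laced (S := sys e cs hcs hS) (H := H) (thick P e cs hcs) (Cham.hyp_of_psub hp) hd ht.prime ht.dvd
    ht.par hM

section TypeB

variable {n : ℕ} {e : Fin n ≃ P.S}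

/-- **the type `B_n`, `n ≥ 3`** -/
theorem eq_top_B [IsSimpleGroup K] [Fact p.Prime] (hn : 3 ≤ n) (hS : Split P p U)
    (hT : BNType P (CoxeterMatrix.B n) e) {t : ℕ} (ht : Good p t K)
    {H : Subgroup K} (hp : H146.KW.PSub p H) (hpt : H146.KW.PSub t H) (hd : p ∣ Nat.card H) : H = ⊤ := by
  obtain ⟨hN, cs, hcs⟩ := hT
  refine eq_top_of_dvd ht hpt ?_
  exact Cham.main_B (S := sys e cs hcs hS) (H := H) (thick P e cs hcs) (Cham.hyp_of_psub hp) hn hd ht.prime ht.dvd
    ht.par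

/-- the number of chambers of a panel -/
theorem card_panel_dvd [Fact p.Prime] [hN : ((P.B ⊓ P.N).subgroupOf P.N).Normal] {I : Type*} {M : CoxeterMatrix I}
    {e : I ≃ P.S} {cs : CoxeterSystem M (Cfsg.Agent.Tits.OfBN.WP P)}
    {hcs : ∀ i, cs.simple i = QuotientGroup.mk (⟨(e i : K), P.subset (e i).2⟩ : P.N)} {S : Sys (bldg P e cs hcs) K p}
    {H : Subgroup K} (hH : Cham.Hyp S H) {i : I} {x : K ⧸ P.B} (h : ¬ Cham.Triv S H i x) :
    Nat.card ((bldg P e cs hcs).Pan i x) ∣ Nat.card H := by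
  have h1 : (bldg P e cs hcs).Pan i x = MulAction.orbit (H ⊓ Cham.stR S {i} x : Subgroup K) x := by
    ext y
    constructor
    · intro hy
      obtain ⟨k, hk, rfl⟩ := Cham.exists_smul_eq hH h hy
      rw [Pan_eq_Res] at hy
      exact ⟨⟨k, hk, hy⟩, rfl⟩
    · rintro ⟨k, rfl⟩
      rw [Pan_eq_Res]
      exact k.2.2
  rw [h1, Nat.card_congr (MulAction.orbitEquivQuotientStabilizer (H ⊓ Cham.stR S {i} x : Subgroup K) x)]
  exact (Subgroup.card_quotient_dvd_card _).trans (Subgroup.card_dvd_of_le inf_le_left)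

/-- **the type `B_n`, when the panels of type `< n - 1` give a prime with cyclic Sylow subgroups** -/
theorem eq_top_passive [IsSimpleGroup K] [Fact p.Prime] (hn : 1 ≤ n) (hS : Split P p U)
    (hT : BNType P (CoxeterMatrix.B n) e) {t : ℕ} (ht : Good p t K)
    {H : Subgroup K} (hp : H146.KW.PSub p H) (hpt : H146.KW.PSub t H) (hd : p ∣ Nat.card H)
    (hl : ∀ i : Fin n, i.val < n - 1 → ∃ l : ℕ, l.Prime ∧ (∀ R : Sylow l K, IsCyclic R) ∧ H146.KW.PSub l H ∧
      ∀ (_ : ((P.B ⊓ P.N).subgroupOf P.N).Normal) (cs : CoxeterSystem (CoxeterMatrix.B n) (WP P))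
        (hcs : ∀ i, cs.simple i = QuotientGroup.mk (⟨(e i : K), P.subset (e i).2⟩ : P.N)) (x : K ⧸ P.B),
        l ∣ Nat.card ((bldg P e cs hcs).Pan i x)) : H = ⊤ := by
  by_contra hne
  obtain ⟨hN, cs, hcs⟩ := hT
  apply hne
  refine eq_top_of_dvd ht hpt ?_
  refine Cham.main_passive (S := sys e cs hcs hS) (H := H) (thick P e cs hcs) (Cham.hyp_of_psub hp) hn hd ht.prime
    ht.dvd ht.par ?_
  intro i hi x
  by_contra hT
  obtain ⟨l, hlp, hlc, hpl, hlx⟩ := hl i hi
  have : Fact l.Prime := ⟨hlp⟩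
  exact hne (hpl.eq_top_of_isCyclic ((hlx hN cs hcs x).trans (card_panel_dvd (Cham.hyp_of_psub hp) hT)) hlc)

end TypeB

end Cfsg.Agent.H331.KW
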