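import Cfsg.Agent.H331.KW.Count
import Cfsg.Agent.H331.KW.CoxB

/-!
# S4243, own characteristic: the type `B_n`

* `main_passive` : all panels of type `< n - 1` are trivial;
* `main_B` : `n ≥ 3`.
-/

set_option autoImplicit false
set_option linter.unusedSectionVars false

namespace Cfsg.Agent.H331.KW.Cham

open Cfsg.Agent.FixBN Cfsg.Agent.Tits Cfsg.Agent.Tits.Core Cfsg.Agent.Tits.Core.Bldg
open Cfsg.Agent.H331.KW.CoxB
open scoped Pointwise

section Parallel

variable {I : Type*} [Finite I] {M : CoxeterMatrix I} {W : Type*} [Group W] [Finite W] {cs : CoxeterSystem M W}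
  {C : Type*} {Δ : Bldg cs C}

/-- moving a residue along a commuting panel -/
theorem par_one {K : Set I} {i : I} (hK : ∀ k ∈ K, M i k = 2) {y y' z' : C} (hy : y' ∈ Δ.Pan i y)
    (hz : z' ∈ Δ.Res K y') : ∃ z ∈ Δ.Res K y, z' ∈ Δ.Pan i z := by
  refine Δ.Res_induction (p := fun z' => ∃ z ∈ Δ.Res K y, z' ∈ Δ.Pan i z) ⟨y, Δ.self_mem_Res K y, hy⟩ ?_ hz
  rintro z1 - z2 k hk hd ⟨z, hz, hz1⟩
  have hik : i ≠ k := by
    rintro rfl
    have := hK i hk
    rw [M.diagonal] at this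
    omega
  rcases hz1 with rfl | hz1
  · exact ⟨z2, Δ.mem_Res_trans hz (Δ.Pan_subset_Res hk z1 (Δ.mem_Pan_of_δ hd)), Δ.self_mem_Pan i z2⟩
  · have h1 : Δ.δ z z2 = cs.simple k * cs.simple i := by
      rw [← Generic.braid_two cs (hK k hk)]
      exact δ_two hik hz1 hd
    obtain ⟨w, hw, hwz⟩ := Δ.exists_between h1 (by
      rw [Generic.length_two cs (Ne.symm hik), cs.length_simple, cs.length_simple])
    exact ⟨w, Δ.mem_Res_trans hz (Δ.Pan_subset_Res hk z (Δ.mem_Pan_of_δ hw)), Δ.mem_Pan_of_δ hwz⟩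

/-- commuting residues -/
theorem par_two {K L : Set I} (hK : ∀ l ∈ L, ∀ k ∈ K, M l k = 2) {y y' z' : C} (hy : y' ∈ Δ.Res L y)
    (hz : z' ∈ Δ.Res K y') : ∃ z ∈ Δ.Res K y, z' ∈ Δ.Res L z := by
  have key : ∀ z' ∈ Δ.Res K y', ∃ z ∈ Δ.Res K y, z' ∈ Δ.Res L z := by
    refine Δ.Res_induction (p := fun y' => ∀ z' ∈ Δ.Res K y', ∃ z ∈ Δ.Res K y, z' ∈ Δ.Res L z)
      (fun z' hz => ⟨z', hz, Δ.self_mem_Res L z'⟩) ?_ hy
    intro y1 _ y2 l hl hd ih z2 hz2
    obtain ⟨z1, hz1, hz12⟩ := par_one (hK l hl) (Δ.mem_Pan_of_δ hd) hz2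
    obtain ⟨z, hz, hzz1⟩ := ih z1 hz1
    exact ⟨z, hz, Δ.mem_Res_trans hzz1 (Δ.Pan_subset_Res hl z1 hz12)⟩
  exact key z' hz

/-- splitting a distance -/
theorem exists_split {J : Set I} {y z : C} {v w : W} (h : Δ.δ y z = v * w) (hw : w ∈ WJ cs J) :
    ∃ z', z ∈ Δ.Res J z' ∧ Δ.δ y z' = v := by
  obtain ⟨z', hz', h1⟩ := Δ.exists_δ_mul_mem_Res y (Δ.self_mem_Res J z) (inv_mem hw)
  exact ⟨z', Δ.mem_Res_symm hz', by rw [h1, h]; group⟩

theorem exists_split_left {J : Set I} {y z : C} {v w : W} (h : Δ.δ y z = v * w) (hv : v ∈ WJ cs J) :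
    ∃ y', y' ∈ Δ.Res J y ∧ Δ.δ y' z = w := by
  have h1 : Δ.δ z y = w⁻¹ * v⁻¹ := by rw [Δ.symm y z, h, mul_inv_rev]
  obtain ⟨y', hy', h2⟩ := exists_split h1 (inv_mem hv)
  exact ⟨y', Δ.mem_Res_symm hy', by rw [Δ.symm z y', h2, inv_inv]⟩

end Parallel

section TypeB

variable {n : ℕ} {W : Type*} [Group W] [Finite W] {cs : CoxeterSystem (CoxeterMatrix.B n) W}
  {C : Type*} {Δ : Bldg cs C} {G : Type*} [Group G] [Finite G] [MulAction G C] {p : ℕ} [hp : Fact p.Prime]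
  {S : Sys Δ G p} {H : Subgroup G}

/-- the panels of the last type do not see the nodes `< n - 2` -/
theorem far {L : Set (Fin n)} (hH : Hyp S H) {b : Fin n} (hb : b.val = n - 1) (hL : L ⊆ A n 0 (n - 2)) {x y : C}
    (hy : y ∈ Δ.Res L x) (h : Triv S H b x) : Triv S H b y := by
  refine Δ.Res_induction (p := fun y => Triv S H b y) h ?_ hy
  intro y1 _ y2 l hl hd hT
  have h1 := (hL hl).2
  exact comm_triv hH (B_two (Or.inr (by omega))) (Δ.mem_Pan_of_δ hd) hT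

variable (S H) in
/-- all panels of the residue of type `≥ k` are trivial -/
def PP (k : ℕ) (x : C) : Prop := ∀ z ∈ Δ.Res (A n k n) x, ∀ i ∈ A n k n, Triv S H i z

variable (S H) in
/-- the types `≠ k - 1` -/
def Tk (n k : ℕ) : Set (Fin n) := {i | i.val + 1 ≠ k}

theorem PP.congr {k : ℕ} {x y : C} (h : PP S H k x) (hy : y ∈ Δ.Res (A n k n) x) : PP S H k y := by
  intro z hz
  exact h z (Δ.mem_Res_trans hy hz)

theorem PP.par (hH : Hyp S H) {k : ℕ} {x y : C}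
    (h : PP S H k x) (hy : y ∈ Δ.Res (Tk n k) x) : PP S H k y := by
  refine Δ.Res_induction (p := fun y => PP S H k y) h ?_ hy
  intro y1 _ y2 i hi hd hT
  have hi' : i.val + 1 ≠ k := hi
  rcases Nat.lt_or_ge i.val k with h1 | h1
  · -- `i + 1 < k`
    intro z hz j hj
    obtain ⟨z1, hz1, hzz⟩ := par_one (K := A n k n) (i := i) (fun l hl => B_two (Or.inl (by have := hl.1; omega)))
      (Δ.mem_Pan_of_δ hd) hz
    exact comm_triv hH (B_two (Or.inr (by have := hj.1; omega))) hzz (hT z1 hz1 j hj)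
  · exact hT.congr (Δ.Pan_subset_Res (mem_A.2 ⟨h1, i.2⟩) y1 (Δ.mem_Pan_of_δ hd))

/-- the first step: all panels of the last type in the residue of type `j, …, n - 2` are trivial -/
theorem step_one (hth : Δ.Thick) (hH : Hyp S H) (hn : 2 ≤ n) (hpas : ∀ i : Fin n, i.val < n - 1 → ∀ x, Triv S H i x)
    {a b : Fin n} (ha : a.val = n - 2) (hb : b.val = n - 1) {j : ℕ} (hj : j ≤ n - 2) {y z : C}
    (hy : PP S H (j + 1) y) (hz : z ∈ Δ.Res (A n j (n - 1)) y) (hzb : Triv S H b z)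
    (hY : ¬ ∃ x ∈ WJ cs (A n (j + 1) (n - 1)), ∃ w ∈ WJ cs (A n j (n - 2)), Δ.δ y z = x * w) :
    ∀ d ∈ Δ.Res (A n j (n - 1)) y, Triv S H b d := by
  have hsubL : A n j (n - 2) ⊆ A n 0 (n - 2) := fun i hi => ⟨by omega, hi.2⟩
  -- chambers of the class `Y`
  have hYtriv : ∀ d, (∃ x ∈ WJ cs (A n (j + 1) (n - 1)), ∃ w ∈ WJ cs (A n j (n - 2)), Δ.δ y d = x * w) →
      Triv S H b d := by
    rintro d ⟨x, hx, w, hw, h⟩
    obtain ⟨y1, hy1, h1⟩ := exists_split h hw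
    have h2 : y1 ∈ Δ.Res (A n (j + 1) n) y := by
      refine Δ.Res_mono (A_mono le_rfl (by omega)) y (show y1 ∈ Δ.Res (A n (j + 1) (n - 1)) y from ?_)
      rw [mem_Res, h1]; exact hx
    exact far hH hb hsubL hy1 (hy y1 h2 b ⟨by omega, b.2⟩)
  intro d hd
  by_cases hdY : ∃ x ∈ WJ cs (A n (j + 1) (n - 1)), ∃ w ∈ WJ cs (A n j (n - 2)), Δ.δ y d = x * w
  · exact hYtriv d hdY
  have hdz : Δ.δ d z ∈ WJ cs (A n j (n - 1)) := Δ.mem_Res_trans (Δ.mem_Res_symm hd) hz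
  rcases c1 cs ha hn hj hdz with h1 | ⟨x, hx, w, hw, h1⟩
  · exact far hH hb hsubL (Δ.mem_Res_symm (y := z) h1) hzb
  -- `d ~ d' ~_a z' ~ z`
  obtain ⟨z', hz', h2⟩ := exists_split h1 hw
  obtain ⟨d', hd', h3⟩ := exists_split_left h2 hx
  have hz'b : Triv S H b z' := far hH hb hsubL (Δ.mem_Res_symm hz') hzb
  have hz'R : z' ∈ Δ.Res (A n j (n - 1)) y :=
    Δ.mem_Res_trans hz (Δ.Res_mono (A_mono le_rfl (by omega)) z (Δ.mem_Res_symm hz'))
  have hz'Y : ¬ ∃ x ∈ WJ cs (A n (j + 1) (n - 1)), ∃ w ∈ WJ cs (A n j (n - 2)), Δ.δ y z' = x * w := by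
    rintro ⟨x1, hx1, w1, hw1, h4⟩
    obtain ⟨t, ht, h5⟩ := Δ.exists_mul_of_mem y hz'
    exact hY ⟨x1, hx1, w1 * t, mul_mem hw1 ht, by rw [h5, h4, mul_assoc]⟩
  rcases c2 cs ha hn hj hz'R with h4 | ⟨x1, hx1, w1, hw1, h4⟩
  · exact absurd h4 hz'Y
  obtain ⟨e, he, he'⟩ := Δ.exists_step y z' a
  have heb : Triv S H b e := hYtriv e ⟨x1, hx1, w1, hw1, by rw [he', h4]⟩
  have hab : a ≠ b := by
    intro h; rw [h] at ha; omega
  have hall := four_all hth hH hab (B_four hn ha hb) (fun z => hpas a (by omega) z) (Δ.mem_Pan_of_δ he)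
    (Δ.ne_of_δ_simple he).symm hz'b heb
  have hd'b : Triv S H b d' :=
    hall d' (Δ.Pan_subset_Res (by simp) z' (Δ.mem_Pan_symm (Δ.mem_Pan_of_δ h3)))
  exact far hH hb hsubL (Δ.mem_Res_symm hd') hd'b

/-- the second step: all panels of the last type in the residue of type `≥ j` are trivial -/
theorem step_two (hth : Δ.Thick) (hH : Hyp S H) (hn : 2 ≤ n) (hpas : ∀ i : Fin n, i.val < n - 1 → ∀ x, Triv S H i x)
    {a b : Fin n} (ha : a.val = n - 2) (hb : b.val = n - 1) {j : ℕ} (hj : j ≤ n - 2) {y : C}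
    (h : ∀ d ∈ Δ.Res (A n j (n - 1)) y, Triv S H b d) : PP S H j y := by
  have hsubL : A n j (n - 2) ⊆ A n 0 (n - 2) := fun i hi => ⟨by omega, hi.2⟩
  have hab : a ≠ b := by
    intro h; rw [h] at ha; omega
  have key : ∀ v ∈ Δ.Res (A n j n) y, ∀ d ∈ Δ.Res (A n j (n - 1)) v, Triv S H b d := by
    intro v hv
    refine Δ.Res_induction (p := fun v => ∀ d ∈ Δ.Res (A n j (n - 1)) v, Triv S H b d) h ?_ hv
    intro v _ v' i hi hd hT
    rcases Nat.lt_or_ge i.val (n - 1) with h1 | h1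
    · rw [Δ.Res_eq_of_mem (Δ.Pan_subset_Res (J := A n j (n - 1)) ⟨hi.1, h1⟩ v (Δ.mem_Pan_of_δ hd))]
      exact hT
    have hib : i = b := Fin.ext (by have := i.2; omega)
    subst hib
    intro d hdv
    have hv'b : Triv S H i v' := (hT v (Δ.self_mem_Res _ v)).congr (Δ.mem_Pan_of_δ hd)
    rcases c1 cs ha hn hj hdv with h2 | ⟨x, hx, w, hw, h2⟩
    · exact far hH hb hsubL h2 hv'b
    obtain ⟨d', hd', h3⟩ := exists_split h2 hw
    obtain ⟨v2, hv2, h4⟩ := exists_split_left h3 hx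
    have hvv2 : v' ∈ Δ.Res {i} v := by rw [← Pan_eq_Res]; exact Δ.mem_Pan_of_δ hd
    obtain ⟨v3, hv3, hv32⟩ := par_two (K := A n j (n - 2)) (L := {i}) (by
      rintro l rfl k hk
      exact B_two (Or.inr (by have := hk.2; omega))) hvv2 hv2
    rw [← Pan_eq_Res] at hv32
    have hv3R : v3 ∈ Δ.Res (A n j (n - 1)) v :=
      Δ.Res_mono (A_mono le_rfl (by omega)) v hv3
    obtain ⟨e, he, hne⟩ := exists_ne hth a v3
    have heR : e ∈ Δ.Res (A n j (n - 1)) v :=
      Δ.mem_Res_trans hv3R (Δ.Pan_subset_Res (mem_A.2 ⟨by omega, by omega⟩) v3 he)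
    have hall := four_all hth hH hab (B_four hn ha hb) (fun z => hpas a (by omega) z) he hne (hT v3 hv3R)
      (hT e heR)
    have hd'b : Triv S H i d' := by
      refine hall d' ?_
      refine Δ.mem_Res_trans (Δ.Pan_subset_Res (by simp) v3 hv32) ?_
      exact Δ.Pan_subset_Res (by simp) v2 (Δ.mem_Pan_of_δ h4)
    exact far hH hb hsubL hd' hd'b
  intro z hz i hi
  rcases Nat.lt_or_ge i.val (n - 1) with h1 | h1
  · exact hpas i h1 z
  · have hib : i = b := Fin.ext (by have := i.2; omega)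
    subst hib
    exact key z hz z (Δ.self_mem_Res _ z)

/-- the fibre -/
def FF (Δ : Bldg cs C) (k : ℕ) (x : C) : Set C := {z | ∃ y ∈ Δ.Res (Tk n k) x, z ∈ Δ.Res (A n 0 (n - 1)) y}

theorem step_b (hth : Δ.Thick) (hH : Hyp S H) (hpas : ∀ i : Fin n, i.val < n - 1 → ∀ x, Triv S H i x)
    {b : Fin n} (hb : b.val = n - 1) {j : ℕ} (hj : j + 1 ≤ n) (hmin : ∀ k' < j + 1, ∀ x, ¬ PP S H k' x) {x : C}
    (hx : PP S H (j + 1) x) {z : C} (hz : z ∈ FF Δ (j + 1) x) (hzb : Triv S H b z) {v : C}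
    (hv : v ∈ Δ.Pan b z) : v ∈ FF Δ (j + 1) x := by
  have hbn := b.2
  rcases Nat.lt_or_ge (j + 1) n with hjn | hjn
  swap
  · -- `j + 1 = n`: contradiction with the minimality
    exfalso
    refine hmin j (by omega) z ?_
    have hA : A n j n = {b} := by
      ext i
      rw [mem_A, Set.mem_singleton_iff, Fin.ext_iff]
      have := i.2
      omega
    intro w hw i hi
    rw [hA] at hw hi
    rw [Set.mem_singleton_iff] at hi
    subst hi
    rw [← Pan_eq_Res] at hw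
    exact hzb.congr hw
  have hn : 2 ≤ n := by omega
  obtain ⟨y, hy, hzy⟩ := hz
  let a : Fin n := ⟨n - 2, by omega⟩
  have ha : a.val = n - 2 := rfl
  obtain ⟨x1, hx1, u, hu, w, hw, h⟩ := c3 cs hn (k := j) (by omega) hzy
  obtain ⟨z', hz', h1⟩ := exists_split h hw
  obtain ⟨y', hy', h2⟩ := exists_split_left h1 hx1
  have hy'x : y' ∈ Δ.Res (Tk n (j + 1)) x := by
    refine Δ.mem_Res_trans hy (Δ.Res_mono ?_ y hy')
    intro i hi
    have h3 : i.val ≠ j := hi.2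
    change i.val + 1 ≠ j + 1
    omega
  have hPy' : PP S H (j + 1) y' := hx.par hH hy'x
  have hbT : b ∈ Tk n (j + 1) := by
    change b.val + 1 ≠ j + 1
    omega
  have hAT : A n (j + 1) (n - 1) ⊆ Tk n (j + 1) := by
    intro i hi
    have := hi.1
    change i.val + 1 ≠ j + 1
    omega
  by_cases hY : ∃ x ∈ WJ cs (A n (j + 1) (n - 1)), ∃ w ∈ WJ cs (A n j (n - 2)), Δ.δ y' z' = x * w
  · obtain ⟨x2, hx2, w2, hw2, h3⟩ := hY
    obtain ⟨y1, hy1, h4⟩ := exists_split h3 hw2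
    have h5 : y1 ∈ Δ.Res (A n (j + 1) (n - 1)) y' := by
      rw [mem_Res, h4]; exact hx2
    have h6 : z ∈ Δ.Res (A n 0 (n - 2)) y1 :=
      Δ.mem_Res_trans (Δ.Res_mono (A_mono (Nat.zero_le _) le_rfl) y1 hy1) hz'
    have h7 : v ∈ Δ.Res {b} z := by rw [← Pan_eq_Res]; exact hv
    obtain ⟨y2, hy2, hvy2⟩ := par_two (K := {b}) (L := A n 0 (n - 2)) (by
      intro l hl k hk
      rw [Set.mem_singleton_iff] at hk
      subst hk
      exact B_two (Or.inl (by have := hl.2; omega))) h6 h7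
    refine ⟨y2, ?_, Δ.Res_mono (A_mono le_rfl (by omega)) y2 hvy2⟩
    refine Δ.mem_Res_trans hy'x (Δ.mem_Res_trans (Δ.Res_mono hAT y' h5) ?_)
    exact Δ.Res_mono (Set.singleton_subset_iff.2 hbT) y1 hy2
  · exfalso
    have hz'b : Triv S H b z' := far hH hb subset_rfl (Δ.mem_Res_symm hz') hzb
    have h3 := step_one hth hH hn hpas ha hb (j := j) (by omega) hPy' (z := z') (by rw [mem_Res, h2]; exact hu)
      hz'b hY
    exact hmin j (by omega) y' (step_two hth hH hn hpas ha hb (by omega) h3)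

theorem Q_FF (hH : Hyp S H) (hpas : ∀ i : Fin n, i.val < n - 1 → ∀ x, Triv S H i x) {k : ℕ} {x : C}
    (hx : PP S H k x) (hk : k ≤ n) {z : C} (hz : z ∈ FF Δ k x) : Q S H z = Q S H x := by
  obtain ⟨y, hy, hz⟩ := hz
  have h1 : Q S H y = Q S H x := by
    refine Q_const ?_ y hy
    intro w hw i hi
    rcases Nat.lt_or_ge i.val (n - 1) with h1 | h1
    · exact hpas i h1 w
    · have h2 : i.val + 1 ≠ k := hi
      have h3 := i.2
      exact hx.par hH hw w (Δ.self_mem_Res _ w) i (mem_A.2 ⟨by omega, i.2⟩)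
  rw [← h1]
  exact Q_const (fun w _ i hi => hpas i hi.2 w) z hz

/-- **The fibres in the passive case.** -/
theorem mem_FF_iff (hth : Δ.Thick) (hH : Hyp S H) (hpas : ∀ i : Fin n, i.val < n - 1 → ∀ x, Triv S H i x)
    {j : ℕ} (hj : j + 1 ≤ n) (hmin : ∀ k' < j + 1, ∀ x, ¬ PP S H k' x) {x : C}
    (hx : PP S H (j + 1) x) (z : C) : Q S H z = Q S H x ↔ z ∈ FF Δ (j + 1) x := by
  refine ⟨fun h => ?_, fun h => Q_FF hH hpas hx hj h⟩
  induction hn : cs.length (Δ.δ x z) using Nat.strong_induction_on generalizing z with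
  | _ m ih =>
    by_cases h1 : Δ.δ x z = 1
    · rw [← (Δ.eq_one x z).1 h1]
      exact ⟨x, Δ.self_mem_Res _ x, Δ.self_mem_Res _ x⟩
    obtain ⟨i, hi⟩ := cs.exists_rightDescent_of_ne_one h1
    obtain ⟨w, hw, hxw⟩ := Δ.exists_step x z i
    have hl : cs.length (Δ.δ x z * cs.simple i) < cs.length (Δ.δ x z) := hi
    have hq : Q S H x = Q S H w := Q_eq_of_fix hH fun u hu =>
      fix_step (S := S) (fix_of_mem hu) (fix_of_eq h hu) hw hxw hl
    have hwz : z ∈ Δ.Pan i w := Δ.mem_Pan_symm (Δ.mem_Pan_of_δ hw)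
    have hT : Triv S H i w := triv_of_ne hH hwz (Δ.ne_of_δ_simple hw) (by rw [← hq, h])
    have h2 := ih (cs.length (Δ.δ x w)) (by rw [hxw, ← hn]; exact hl) w hq.symm rfl
    rcases Nat.lt_or_ge i.val (n - 1) with h3 | h3
    · obtain ⟨y, hy, hwy⟩ := h2
      exact ⟨y, hy, Δ.mem_Res_trans hwy (Δ.Pan_subset_Res (mem_A.2 ⟨Nat.zero_le _, h3⟩) w hwz)⟩
    · have h4 := i.2
      exact step_b hth hH hpas (by omega) hj hmin hx h2 hT hwz

/-- the order of the fibre is prime to `t` -/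
theorem not_dvd_FF [Finite C] [htr : MulAction.IsPretransitive G C] {t : ℕ} (ht : t.Prime)
    (hpar : ∀ L : Subgroup G, L ≠ ⊤ → ¬ p ∣ L.index → ¬ t ∣ Nat.card L) (hS : Sys Δ G p)
    {k : ℕ} (hk : 1 ≤ k) (hkn : k ≤ n) (x : C) : ¬ t ∣ Nat.card (FF Δ k x) := by
  classical
  have hJ : A n 0 (n - 1) ≠ Set.univ := by
    intro h
    have h1 : (⟨n - 1, by omega⟩ : Fin n) ∈ A n 0 (n - 1) := h ▸ Set.mem_univ _
    have h2 : n - 1 < n - 1 := h1.2
    omega
  have hT : Tk n k ≠ Set.univ := by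
    intro h
    have h1 : (⟨k - 1, by omega⟩ : Fin n) ∈ Tk n k := h ▸ Set.mem_univ _
    have h2 : k - 1 + 1 ≠ k := h1
    omega
  have h1 : ¬ t ∣ Nat.card (Δ.Res (A n 0 (n - 1)) x) := not_dvd_Res (S := hS) hpar hJ x
  have h2 : ¬ t ∣ Nat.card (stR hS (Tk n k) x) := not_dvd_stR (S := hS) hpar hT x
  -- the set of the residues
  let X : Set (Set C) := {R | ∃ y ∈ Δ.Res (Tk n k) x, R = Δ.Res (A n 0 (n - 1)) y}
  have hsmul : ∀ (g : G) (y : C), g • Δ.Res (A n 0 (n - 1)) y = Δ.Res (A n 0 (n - 1)) (g • y) := by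
    intro g y
    ext z
    rw [Set.mem_smul_set_iff_inv_smul_mem]
    constructor
    · intro h
      have := smul_mem_Res' (S := hS) g h
      rwa [smul_inv_smul] at this
    · intro h
      have := smul_mem_Res' (S := hS) g⁻¹ h
      rwa [inv_smul_smul] at this
  have hX : X = MulAction.orbit (stR hS (Tk n k) x) (Δ.Res (A n 0 (n - 1)) x) := by
    ext R
    constructor
    · rintro ⟨y, hy, rfl⟩
      obtain ⟨g, rfl⟩ := htr.exists_smul_eq x y
      exact ⟨⟨g, hy⟩, hsmul g x⟩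
    · rintro ⟨g, rfl⟩
      exact ⟨(g : G) • x, g.2, hsmul g x⟩
  have hXd : Nat.card X ∣ Nat.card (stR hS (Tk n k) x) := by
    rw [hX, Nat.card_congr (MulAction.orbitEquivQuotientStabilizer (stR hS (Tk n k) x) _)]
    exact Subgroup.card_quotient_dvd_card _
  -- all residues have the same order
  have hcard : ∀ y, Nat.card (Δ.Res (A n 0 (n - 1)) y) = Nat.card (Δ.Res (A n 0 (n - 1)) x) := by
    intro y
    obtain ⟨g, rfl⟩ := htr.exists_smul_eq x y
    rw [← hsmul]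
    exact Nat.card_congr (Equiv.Set.image _ _ (MulAction.injective g)).symm
  let f : FF Δ k x → X := fun z => ⟨Δ.Res (A n 0 (n - 1)) z.1, by
    obtain ⟨y, hy, hz⟩ := z.2
    exact ⟨y, hy, Δ.Res_eq_of_mem hz⟩⟩
  have hf : ∀ R : X, Nat.card {z // f z = R} = Nat.card (Δ.Res (A n 0 (n - 1)) x) := by
    rintro ⟨_, y, hy, rfl⟩
    rw [← hcard y]
    refine Nat.card_congr ⟨fun z => ⟨z.1.1, ?_⟩, fun z => ⟨⟨z.1, y, hy, z.2⟩, ?_⟩, fun z => ?_, fun z => ?_⟩
    · have h3 : Δ.Res (A n 0 (n - 1)) z.1.1 = Δ.Res (A n 0 (n - 1)) y := congrArg Subtype.val z.2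
      exact (Set.ext_iff.1 h3 _).1 (Δ.self_mem_Res _ _)
    · apply Subtype.ext
      exact Δ.Res_eq_of_mem z.2
    · rfl
    · rfl
  have hfin : Finite X := Finite.of_surjective (fun y : Δ.Res (Tk n k) x => (⟨Δ.Res (A n 0 (n - 1)) y.1, y.1, y.2, rfl⟩ : X))
    (by rintro ⟨_, y, hy, rfl⟩; exact ⟨⟨y, hy⟩, rfl⟩)
  have := Fintype.ofFinite X
  have htot : Nat.card (FF Δ k x) = Nat.card X * Nat.card (Δ.Res (A n 0 (n - 1)) x) := by
    rw [Nat.card_congr (Equiv.sigmaFiberEquiv f).symm, Nat.card_sigma]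
    simp only [hf]
    rw [Finset.sum_const, smul_eq_mul, Finset.card_univ, Nat.card_eq_fintype_card (α := X)]
  rw [htot, ht.dvd_mul]
  rintro (h3 | h3)
  · exact h2 (h3.trans hXd)
  · exact h1 h3

/-- **The passive case** : all panels of type `< n - 1` are trivial -/
theorem main_passive [Finite C] [Nonempty C] [MulAction.IsPretransitive G C] (hth : Δ.Thick) (hH : Hyp S H)
    (hn : 1 ≤ n) (hd : p ∣ Nat.card H) {t : ℕ} (ht : t.Prime)
    (hG : t ∣ Nat.card G) (hpar : ∀ L : Subgroup G, L ≠ ⊤ → ¬ p ∣ L.index → ¬ t ∣ Nat.card L)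
    (hpas : ∀ i : Fin n, i.val < n - 1 → ∀ x, Triv S H i x) : t ∣ Nat.card H := by
  classical
  have : Nonempty (Fin n) := ⟨⟨0, hn⟩⟩
  obtain ⟨x0⟩ := (inferInstance : Nonempty C)
  have hex : ∃ k, ∃ x, PP S H k x := by
    refine ⟨n, x0, ?_⟩
    intro z _ i hi
    exact absurd hi.1 (by have := i.2; omega)
  obtain ⟨x, hx⟩ := Nat.find_spec hex
  have hmin : ∀ k' < Nat.find hex, ∀ x, ¬ PP S H k' x := fun k' hk' x hx => Nat.find_min hex hk' ⟨x, hx⟩
  have hle : Nat.find hex ≤ n := Nat.find_min' hex (by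
    refine ⟨x0, ?_⟩
    intro z _ i hi
    exact absurd hi.1 (by have := i.2; omega))
  generalize hk : Nat.find hex = k at hx hmin hle
  rcases k with - | j
  · exfalso
    apply not_const hH hd x
    intro y
    have hA : A n 0 n = Set.univ := by
      rw [Set.eq_univ_iff_forall]
      intro i
      exact ⟨Nat.zero_le _, i.2⟩
    refine Q_const (J := A n 0 n) (fun z hz i hi => hx z hz i hi) y ?_
    rw [hA, Δ.Res_univ]
    trivial
  · refine dvd_of_fibre hH ht x (dvd_card_C (S := S) ht x hG hpar) ?_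
    have h2 : Nat.card {z // Q S H z = Q S H x} = Nat.card (FF Δ (j + 1) x) :=
      Nat.card_congr (Equiv.subtypeEquivRight (mem_FF_iff hth hH hpas hle hmin hx))
    rw [h2]
    exact not_dvd_FF ht hpar S (by omega) hle x

/-- **The type `B_n`, `n ≥ 3`.** -/
theorem main_B [Finite C] [Nonempty C] [MulAction.IsPretransitive G C] (hth : Δ.Thick) (hH : Hyp S H)
    (hn : 3 ≤ n) (hd : p ∣ Nat.card H) {t : ℕ} (ht : t.Prime)
    (hG : t ∣ Nat.card G) (hpar : ∀ L : Subgroup G, L ≠ ⊤ → ¬ p ∣ L.index → ¬ t ∣ Nat.card L) :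
    t ∣ Nat.card H := by
  have : Nonempty (Fin n) := ⟨⟨0, by omega⟩⟩
  have hM : ∀ i k : Fin n, i.val < n - 1 → i = k ∨ (CoxeterMatrix.B n) i k = 2 ∨ (CoxeterMatrix.B n) i k = 3 ∨
      ∃ j, (CoxeterMatrix.B n) i j = 3 ∧ (CoxeterMatrix.B n) j k = 2 := by
    intro i k hi
    by_cases hik : i = k
    · exact Or.inl hik
    have hik' : i.val ≠ k.val := fun h => hik (Fin.ext h)
    by_cases h2 : i.val + 1 < k.val ∨ k.val + 1 < i.val
    · exact Or.inr (Or.inl (B_two h2))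
    by_cases hk : k.val < n - 1
    · exact Or.inr (Or.inr (Or.inl (B_three (by omega) hi hk)))
    · refine Or.inr (Or.inr (Or.inr ⟨⟨n - 3, by omega⟩, B_three (Or.inr ?_) hi ?_, B_two (Or.inl ?_)⟩)) <;>
      · have := k.2
        simp only
        omega
  have hc : ∀ i : Fin n, i.val < n - 1 → ∀ x y, Triv S H i x → Triv S H i y := fun i hi x y hx =>
    const_of_step (fun k _ _ hyz hT => step hth hH (hM i k hi) hyz hT) x y hx
  -- the types `< n - 1` behave in the same way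
  have hadj : ∀ m (hm : m < n - 1) (x : C), Triv S H (⟨m, by omega⟩ : Fin n) x ↔ Triv S H (⟨0, by omega⟩ : Fin n) x := by
    intro m
    induction m with
    | zero => intro _ _; rfl
    | succ m ih =>
      intro hm x
      rw [← ih (by omega) x]
      have h3 : (CoxeterMatrix.B n) (⟨m + 1, by omega⟩ : Fin n) (⟨m, by omega⟩ : Fin n) = 3 :=
        B_three (Or.inr rfl) hm (by simp only; omega)
      constructor
      · intro h
        exact (laced_all hth hH h3 (Or.inl h) x (Δ.self_mem_Res _ x)).2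
      · intro h
        exact (laced_all hth hH h3 (Or.inr h) x (Δ.self_mem_Res _ x)).1
  by_cases hT : ∃ x, Triv S H (⟨0, by omega⟩ : Fin n) x
  · obtain ⟨x, hx⟩ := hT
    refine main_passive hth hH (by omega) hd ht hG hpar ?_
    intro i hi y
    exact (hadj i.val hi y).2 (hc _ (by simp only; omega) x y hx)
  · push Not at hT
    have hact : ∀ i : Fin n, i.val < n - 1 → ∀ x, ¬ Triv S H i x := fun i hi x h => hT x ((hadj i.val hi x).1 h)
    refine main_const hH hd ht hG hpar ?_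
    intro i x y hx
    rcases Nat.lt_or_ge i.val (n - 1) with h1 | h1
    · exact absurd hx (hact i h1 x)
    refine const_of_step ?_ x y hx
    intro k x y hy hx
    rcases Nat.lt_or_ge k.val (n - 1) with h2 | h2
    · exact transfer hH (hact k h2 x) hy hx
    · have : i = k := Fin.ext (by have := i.2; have := k.2; omega)
      subst this
      exact hx.congr hy

end TypeB

end Cfsg.Agent.H331.KW.Cham
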