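import Cfsg.Agent.H331.KW.Cham

/-!
# S4243, own characteristic: residues of rank two

* `comm_triv` : `m_{ij} = 2`;
* `laced_all` : `m_{ij} = 3`: one trivial panel in the residue makes all panels trivial;
* `four_all` : `m_{ij} = 4`: two trivial `j`-panels on a trivial `i`-panel.
-/

set_option autoImplicit false
set_option linter.unusedSectionVars false

namespace Cfsg.Agent.H331.KW.Cham

open Cfsg.Agent.FixBN Cfsg.Agent.Tits Cfsg.Agent.Tits.Core Cfsg.Agent.Tits.Core.Bldg

section Comb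

variable {I : Type*} [Finite I] {M : CoxeterMatrix I} {W : Type*} [Group W] [Finite W] {cs : CoxeterSystem M W}
  {C : Type*} {Δ : Bldg cs C}

theorem pan_inter {i j : I} (hij : i ≠ j) {x y : C} (hi : y ∈ Δ.Pan i x) (hj : y ∈ Δ.Pan j x) : y = x := by
  rcases hi with h | hi
  · exact h
  rcases hj with h | hj
  · exact h
  exact absurd ((inferInstance : OppRes.Cox cs).inj (hi.symm.trans hj)) hij

/-- the distance along a gallery of type `i j` -/
theorem δ_two {i j : I} (hij : i ≠ j) {x y z : C} (h1 : Δ.δ x y = cs.simple i) (h2 : Δ.δ y z = cs.simple j) :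
    Δ.δ x z = cs.simple i * cs.simple j :=
  Δ.δ_mul_of h1 h2 (by rw [Generic.length_two cs hij, cs.length_simple, cs.length_simple])

theorem δ_three {i j : I} (hij : i ≠ j) (hm : M i j ≠ 2) {x y z w : C} (h1 : Δ.δ x y = cs.simple i)
    (h2 : Δ.δ y z = cs.simple j) (h3 : Δ.δ z w = cs.simple i) :
    Δ.δ x w = cs.simple i * cs.simple j * cs.simple i :=
  Δ.δ_mul_of (δ_two hij h1 h2) h3 (by
    rw [Generic.length_three cs hij hm, Generic.length_two cs hij, cs.length_simple])

theorem δ_four {i j : I} (hij : i ≠ j) (hm : M i j = 4) {x y z w v : C} (h1 : Δ.δ x y = cs.simple i)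
    (h2 : Δ.δ y z = cs.simple j) (h3 : Δ.δ z w = cs.simple i) (h4 : Δ.δ w v = cs.simple j) :
    Δ.δ x v = cs.simple i * cs.simple j * cs.simple i * cs.simple j :=
  Δ.δ_mul_of (δ_three hij (by omega) h1 h2 h3) h4 (by
    rw [Generic.length_four cs hij hm, Generic.length_three cs hij (by omega), cs.length_simple])

theorem simple_comm_ne {i j : I} (hij : i ≠ j) (hm : M i j ≠ 2) :
    cs.simple i * cs.simple j ≠ cs.simple j * cs.simple i := by
  intro h
  have h3 := Generic.length_three cs hij hm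
  rw [h, mul_assoc, cs.simple_mul_simple_self, mul_one, cs.length_simple] at h3
  omega

/-- closed galleries of type `i j i j` -/
theorem closed_four {i j : I} (hij : i ≠ j) (hm : M i j ≠ 2) {a b c d : C} (h1 : b ∈ Δ.Pan i a)
    (h2 : c ∈ Δ.Pan j b) (h3 : d ∈ Δ.Pan i c) (h4 : a ∈ Δ.Pan j d) : (a = b ∧ c = d) ∨ (b = c ∧ d = a) := by
  by_cases hab : a = b
  · subst hab
    left
    refine ⟨rfl, ?_⟩
    have h5 : d ∈ Δ.Pan j c := Δ.mem_Pan_trans (Δ.mem_Pan_symm h2) (Δ.mem_Pan_symm h4)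
    exact (pan_inter hij h3 h5).symm
  by_cases hbc : b = c
  · subst hbc
    right
    refine ⟨rfl, ?_⟩
    have h5 : d ∈ Δ.Pan i a := Δ.mem_Pan_trans h1 h3
    exact pan_inter hij h5 (Δ.mem_Pan_symm h4)
  exfalso
  have e1 : Δ.δ a b = cs.simple i := h1.resolve_left (fun h => hab h.symm)
  have e2 : Δ.δ b c = cs.simple j := h2.resolve_left (fun h => hbc h.symm)
  have e := δ_two hij e1 e2
  have key : ∀ k : I, Δ.δ a c ≠ cs.simple k := by
    intro k hk
    have := Generic.length_two cs hij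
    rw [← e, hk, cs.length_simple] at this
    omega
  rcases h4 with h4 | h4
  · rcases Δ.mem_Pan_symm h3 with h5 | h5
    · rw [h4, h5, Δ.δ_self] at e
      have := Generic.length_two cs hij
      rw [← e, cs.length_one] at this
      omega
    · exact key i (by rw [h4]; exact h5)
  rcases h3 with h3 | h3
  · subst h3
    exact key j (Δ.δ_symm_simple h4)
  have e3 := δ_two (Ne.symm hij) (Δ.δ_symm_simple h4) (Δ.δ_symm_simple h3)
  rw [e] at e3
  exact simple_comm_ne hij hm e3

/-- elements of `W_{ij}` for `m_{ij} = 3` -/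
theorem mem_three {i j : I} (hm : M i j = 3) {w : W} (hw : w ∈ WJ cs {i, j}) :
    ∃ a b c : W, (a = 1 ∨ a = cs.simple i) ∧ (b = 1 ∨ b = cs.simple j) ∧ (c = 1 ∨ c = cs.simple i) ∧
      w = a * b * c := by
  have hb := Generic.braid_three cs hm
  unfold WJ at hw
  induction hw using Subgroup.closure_induction_right with
  | one => exact ⟨1, 1, 1, Or.inl rfl, Or.inl rfl, Or.inl rfl, by group⟩
  | mul_right x hx y hy ih =>
    obtain ⟨k, hk, rfl⟩ := hy
    obtain ⟨a, b, c, ha, hb', hc, rfl⟩ := ih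
    rcases hk with rfl | hk
    · rcases hc with rfl | rfl
      · exact ⟨a, b, cs.simple k, ha, hb', Or.inr rfl, by group⟩
      · exact ⟨a, b, 1, ha, hb', Or.inl rfl, by rw [mul_assoc, cs.simple_mul_simple_self]⟩
    · rw [Set.mem_singleton_iff] at hk
      subst hk
      rcases hc with rfl | rfl
      · rcases hb' with rfl | rfl
        · exact ⟨a, cs.simple k, 1, ha, Or.inr rfl, Or.inl rfl, by group⟩
        · exact ⟨a, 1, 1, ha, Or.inl rfl, Or.inl rfl, by
            rw [mul_one, mul_assoc, cs.simple_mul_simple_self]; group⟩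
      · rcases hb' with rfl | rfl
        · rcases ha with rfl | rfl
          · exact ⟨cs.simple i, cs.simple k, 1, Or.inr rfl, Or.inr rfl, Or.inl rfl, by group⟩
          · exact ⟨1, cs.simple k, 1, Or.inl rfl, Or.inr rfl, Or.inl rfl, by
              rw [mul_one, cs.simple_mul_simple_self]; group⟩
        · have e : a * cs.simple k * cs.simple i * cs.simple k = a * cs.simple i * cs.simple k * cs.simple i := by
            have : a * cs.simple k * cs.simple i * cs.simple k = a * (cs.simple k * cs.simple i * cs.simple k) := by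
              group
            rw [this, ← hb]; group
          rcases ha with rfl | rfl
          · exact ⟨cs.simple i, cs.simple k, cs.simple i, Or.inr rfl, Or.inr rfl, Or.inr rfl, by
              rw [e]; group⟩
          · exact ⟨1, cs.simple k, cs.simple i, Or.inl rfl, Or.inr rfl, Or.inr rfl, by
              rw [e, cs.simple_mul_simple_self]⟩
  | mul_inv_cancel x hx y hy ih =>
    obtain ⟨k, hk, rfl⟩ := hy
    rw [cs.inv_simple]
    obtain ⟨a, b, c, ha, hb', hc, rfl⟩ := ih
    rcases hk with rfl | hk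
    · rcases hc with rfl | rfl
      · exact ⟨a, b, cs.simple k, ha, hb', Or.inr rfl, by group⟩
      · exact ⟨a, b, 1, ha, hb', Or.inl rfl, by rw [mul_assoc, cs.simple_mul_simple_self]⟩
    · rw [Set.mem_singleton_iff] at hk
      subst hk
      rcases hc with rfl | rfl
      · rcases hb' with rfl | rfl
        · exact ⟨a, cs.simple k, 1, ha, Or.inr rfl, Or.inl rfl, by group⟩
        · exact ⟨a, 1, 1, ha, Or.inl rfl, Or.inl rfl, by
            rw [mul_one, mul_assoc, cs.simple_mul_simple_self]; group⟩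
      · rcases hb' with rfl | rfl
        · rcases ha with rfl | rfl
          · exact ⟨cs.simple i, cs.simple k, 1, Or.inr rfl, Or.inr rfl, Or.inl rfl, by group⟩
          · exact ⟨1, cs.simple k, 1, Or.inl rfl, Or.inr rfl, Or.inl rfl, by
              rw [mul_one, cs.simple_mul_simple_self]; group⟩
        · have e : a * cs.simple k * cs.simple i * cs.simple k = a * cs.simple i * cs.simple k * cs.simple i := by
            have : a * cs.simple k * cs.simple i * cs.simple k = a * (cs.simple k * cs.simple i * cs.simple k) := by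
              group
            rw [this, ← hb]; group
          rcases ha with rfl | rfl
          · exact ⟨cs.simple i, cs.simple k, cs.simple i, Or.inr rfl, Or.inr rfl, Or.inr rfl, by
              rw [e]; group⟩
          · exact ⟨1, cs.simple k, cs.simple i, Or.inl rfl, Or.inr rfl, Or.inr rfl, by
              rw [e, cs.simple_mul_simple_self]⟩

/-- **join** : two chambers of an `A_2` residue are joined by a gallery `i j i` -/
theorem join {i j : I} (hm : M i j = 3) {c d : C} (h : d ∈ Δ.Res {i, j} c) :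
    ∃ e ∈ Δ.Pan i c, ∃ f ∈ Δ.Pan j e, d ∈ Δ.Pan i f := by
  obtain ⟨a, b, c', ha, hb, hc, he⟩ := mem_three hm h
  -- the last step
  have h1 : ∃ f, f ∈ Δ.Pan i d ∧ Δ.δ c f = a * b := by
    rcases hc with rfl | rfl
    · exact ⟨d, Δ.self_mem_Pan i d, by rw [he, mul_one]⟩
    · obtain ⟨f, hf, hf'⟩ := Δ.exists_step c d i
      exact ⟨f, Δ.mem_Pan_of_δ hf, by rw [hf', he, mul_assoc, cs.simple_mul_simple_self, mul_one]⟩
  obtain ⟨f, hf, hcf⟩ := h1
  have h2 : ∃ e, e ∈ Δ.Pan j f ∧ Δ.δ c e = a := by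
    rcases hb with rfl | rfl
    · exact ⟨f, Δ.self_mem_Pan j f, by rw [hcf, mul_one]⟩
    · obtain ⟨e, he', he''⟩ := Δ.exists_step c f j
      exact ⟨e, Δ.mem_Pan_of_δ he', by rw [he'', hcf, mul_assoc, cs.simple_mul_simple_self, mul_one]⟩
  obtain ⟨e, hef, hce⟩ := h2
  refine ⟨e, ?_, f, Δ.mem_Pan_symm hef, Δ.mem_Pan_symm hf⟩
  rcases ha with rfl | rfl
  · exact Or.inl ((Δ.eq_one c e).1 hce).symm
  · exact Or.inr hce

theorem exists_ne (hth : Δ.Thick) (i : I) (x : C) : ∃ y ∈ Δ.Pan i x, y ≠ x := by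
  obtain ⟨y, _, _, hy, _⟩ := hth x i
  exact ⟨y, Δ.mem_Pan_of_δ hy, (Δ.ne_of_δ_simple hy).symm⟩

end Comb

section Two

variable {I : Type*} [Finite I] {M : CoxeterMatrix I} {W : Type*} [Group W] [Finite W] {cs : CoxeterSystem M W}
  {C : Type*} {Δ : Bldg cs C} {G : Type*} [Group G] [Finite G] [MulAction G C] {p : ℕ} [hp : Fact p.Prime]
  {S : Sys Δ G p} {H : Subgroup G}

/-- `m_{ij} = 2` -/
theorem comm_triv (hH : Hyp S H) {i j : I} (hm : M i j = 2) {x y : C} (hy : y ∈ Δ.Pan j x)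
    (h : Triv S H i x) : Triv S H i y := by
  have hij : i ≠ j := by
    rintro rfl
    rw [M.diagonal] at hm
    omega
  by_cases hT : Triv S H j x
  swap
  · exact transfer hH hT hy h
  rcases hy with rfl | hd
  · exact h
  have hqy : Q S H y = Q S H x := hT y (Δ.mem_Pan_of_δ hd)
  intro z hz
  rcases hz with rfl | hz
  · rfl
  -- the chamber `x'` with `x ~_i x' ~_j z`
  have h1 : Δ.δ x z = cs.simple i * cs.simple j := by
    rw [Generic.braid_two cs hm]
    exact δ_two (Ne.symm hij) hd hz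
  obtain ⟨x', hx', hxz⟩ := Δ.exists_between h1 (by
    rw [Generic.length_two cs hij, cs.length_simple, cs.length_simple])
  have hqx : Q S H x' = Q S H x := h x' (Δ.mem_Pan_of_δ hx')
  symm
  refine Q_eq_of_fix hH fun u hu => ?_
  have huy : u • y = y := fix_of_mem hu
  have hux : u • x' = x' := by
    apply fix_of_mem (S := S) (H := H)
    rw [hqx, ← hqy]; exact hu
  have e1 : u • z ∈ Δ.Pan j x' := by
    have := smul_mem_Pan (S := S) u (Δ.mem_Pan_of_δ hxz)
    rwa [hux] at this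
  have e2 : u • z ∈ Δ.Pan i y := by
    have := smul_mem_Pan (S := S) u (Δ.mem_Pan_of_δ hz)
    rwa [huy] at this
  refine pan_inter (Δ := Δ) hij (x := z) (y := u • z) ?_ ?_
  · exact Δ.mem_Pan_trans (Δ.mem_Pan_symm (Δ.mem_Pan_of_δ hz)) e2
  · exact Δ.mem_Pan_trans (Δ.mem_Pan_symm (Δ.mem_Pan_of_δ hxz)) e1

/-- a trivial panel between two trivial panels, `m_{ij} = 3` -/
theorem three_opp (hth : Δ.Thick) (hH : Hyp S H) {i j : I} (hm : M i j = 3) {d e : C} (he : e ∈ Δ.Pan j d)
    (hne : e ≠ d) (h1 : Triv S H i d) (h2 : Triv S H j d) (h3 : Triv S H i e) :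
    ∀ z ∈ Δ.Res {i, j} d, Q S H z = Q S H d := by
  have hij : i ≠ j := by
    rintro rfl
    rw [M.diagonal] at hm
    omega
  obtain ⟨a, ha, had⟩ := exists_ne hth i d
  obtain ⟨b, hb, hbe⟩ := exists_ne hth i e
  have e1 : Δ.δ a d = cs.simple i := Δ.δ_symm_simple (ha.resolve_left had)
  have e2 : Δ.δ d e = cs.simple j := he.resolve_left hne
  have e3 : Δ.δ e b = cs.simple i := hb.resolve_left hbe
  have e4 := δ_three hij (by omega) e1 e2 e3
  rw [← Generic.wJ_three cs hij hm] at e4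
  have hqa : Q S H a = Q S H d := h1 a ha
  have hqb : Q S H b = Q S H a := by rw [h3 b hb, h2 e he, hqa]
  have h4 := opp_const hth hH e4 hqb
  have had' : d ∈ Δ.Res {i, j} a := Δ.Pan_subset_Res (by simp) a (Δ.mem_Pan_symm ha)
  intro z hz
  rw [← hqa]
  exact h4 z (Δ.mem_Res_trans had' hz)

/-- one half of the `A_2` lemma -/
theorem laced_aux (hth : Δ.Thick) (hH : Hyp S H) {i j : I} (hm : M i j = 3) {c : C} (hc : Triv S H i c) :
    ∀ d ∈ Δ.Res {i, j} c, Triv S H i d ∧ Triv S H j d := by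
  have hij : i ≠ j := by
    rintro rfl
    rw [M.diagonal] at hm
    omega
  have hm' : M j i = 3 := by rw [M.symmetric]; exact hm
  have hsub : ∀ {x : C}, Δ.Res {j, i} x = Δ.Res {i, j} x := by
    intro x; rw [Set.pair_comm]
  have hmi : i ∈ ({i, j} : Set I) := by simp
  have hmj : j ∈ ({i, j} : Set I) := by simp
  by_contra hne
  push Not at hne
  obtain ⟨d0, hd0, hne0⟩ := hne
  -- the residue is not constant
  have hnc : ∀ d ∈ Δ.Res {i, j} c, ¬ ∀ z ∈ Δ.Res {i, j} d, Q S H z = Q S H d := by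
    intro d hd hconst
    have hd0' : d0 ∈ Δ.Res {i, j} d := Δ.mem_Res_trans (Δ.mem_Res_symm hd) hd0
    exact hne0 (triv_of_const hconst hd0' hmi) (triv_of_const hconst hd0' hmj)
  have hA : ∀ d ∈ Δ.Res {i, j} c, ∀ e ∈ Δ.Pan j d, e ≠ d → Triv S H j d → Triv S H i d → ¬ Triv S H i e :=
    fun d hd e he hne h2 h1 h3 => hnc d hd (three_opp hth hH hm he hne h1 h2 h3)
  have hB : ∀ d ∈ Δ.Res {i, j} c, ∀ e ∈ Δ.Pan i d, e ≠ d → Triv S H i d → Triv S H j d → ¬ Triv S H j e := by
    intro d hd e he hne h2 h1 h3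
    have := three_opp hth hH hm' he hne h1 h2 h3
    rw [hsub] at this
    exact hnc d hd this
  -- Claim 1
  have claim1 : ∀ d ∈ Δ.Res {i, j} c, Triv S H i d → ¬ Triv S H j d := by
    intro d hd hid hjd
    obtain ⟨d', hd', hdd'⟩ := exists_ne hth i d
    have hid' : Triv S H i d' := hid.congr hd'
    have hjd' : ¬ Triv S H j d' := hB d hd d' hd' hdd' hid hjd
    have hd'R : d' ∈ Δ.Res {i, j} c := Δ.mem_Res_trans hd (Δ.Pan_subset_Res hmi d hd')
    obtain ⟨e, he, hed'⟩ := exists_ne hth j d'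
    have hie : Triv S H i e := transfer hH hjd' he hid'
    have heR : e ∈ Δ.Res {i, j} c := Δ.mem_Res_trans hd'R (Δ.Pan_subset_Res hmj d' he)
    -- two chambers on the line of `d`
    obtain ⟨f, f', hff', hf, hf'⟩ := hth d j
    have key : ∀ g, Δ.δ d g = cs.simple j → ∃ g1 ∈ Δ.Pan i g, ∃ g2 ∈ Δ.Pan j g1, e ∈ Δ.Pan i g2 ∧ Triv S H j g2 := by
      intro g hg
      have hgP : g ∈ Δ.Pan j d := Δ.mem_Pan_of_δ hg
      have hgd : g ≠ d := (Δ.ne_of_δ_simple hg).symm
      have hig : ¬ Triv S H i g := hA d hd g hgP hgd hjd hid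
      have hjg : Triv S H j g := hjd.congr hgP
      have hgR : g ∈ Δ.Res {i, j} c := Δ.mem_Res_trans hd (Δ.Pan_subset_Res hmj d hgP)
      obtain ⟨g1, hg1, g2, hg2, he2⟩ := join hm (Δ.mem_Res_trans (Δ.mem_Res_symm hgR) heR)
      exact ⟨g1, hg1, g2, hg2, he2, (transfer hH hig hg1 hjg).congr hg2⟩
    obtain ⟨g1, hg1, g2, hg2, he2, hT2⟩ := key f hf
    obtain ⟨k1, hk1, k2, hk2, hek, hTk⟩ := key f' hf'
    have hg2R : g2 ∈ Δ.Res {i, j} c :=
      Δ.mem_Res_trans heR (Δ.Pan_subset_Res hmi e (Δ.mem_Pan_symm he2))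
    -- the two lines coincide
    have hgk : g2 = k2 := by
      by_contra hne
      have h1 : k2 ∈ Δ.Pan i g2 := Δ.mem_Pan_trans he2 (Δ.mem_Pan_symm hek)
      exact hB g2 hg2R k2 h1 (Ne.symm hne) (hie.congr (Δ.mem_Pan_symm he2)) hT2 hTk
    subst hgk
    have h1 : k1 ∈ Δ.Pan j g1 := Δ.mem_Pan_trans hg2 (Δ.mem_Pan_symm hk2)
    have h2 : f ∈ Δ.Pan j f' :=
      Δ.mem_Pan_trans (Δ.mem_Pan_symm (Δ.mem_Pan_of_δ hf')) (Δ.mem_Pan_of_δ hf)
    rcases closed_four hij (by omega) hg1 h1 (Δ.mem_Pan_symm hk1) h2 with ⟨h3, -⟩ | ⟨-, h3⟩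
    · -- `f = g1`: the line of `d` contains the point of `e`
      subst h3
      have h4 : g2 ∈ Δ.Pan j d := Δ.mem_Pan_trans (Δ.mem_Pan_of_δ hf) hg2
      rcases closed_four hij (by omega) hd' he (Δ.mem_Pan_symm he2) (Δ.mem_Pan_symm h4) with ⟨h5, -⟩ | ⟨h5, -⟩
      · exact hdd' h5.symm
      · exact hed' h5.symm
    · exact hff' h3.symm
  -- Claim 2
  have claim2 : ∀ d ∈ Δ.Res {i, j} c, Triv S H i d := by
    intro d hd
    refine Δ.Res_induction (p := fun d => Triv S H i d) hc ?_ hd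
    intro y hy z k hk hyz hT
    rcases hk with rfl | hk
    · exact hT.congr (Δ.mem_Pan_of_δ hyz)
    · rw [Set.mem_singleton_iff] at hk
      subst hk
      exact transfer hH (claim1 y hy hT) (Δ.mem_Pan_of_δ hyz) hT
  -- Claim 3
  have claim3 : ∀ d ∈ Δ.Res {i, j} c, Q S H c = Q S H d := by
    intro d hd
    refine Q_eq_of_fix hH fun u hu => ?_
    have huc : u • c = c := fix_of_mem hu
    have line : ∀ d ∈ Δ.Res {i, j} c, u • d ∈ Δ.Pan j d := by
      intro d hd
      have hud : u • d ∈ Δ.Res {i, j} c := by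
        have := smul_mem_Res' (S := S) u hd
        rwa [huc] at this
      have h1 : u • d ∈ Δ.Res {j, i} d := by
        rw [hsub]; exact Δ.mem_Res_trans (Δ.mem_Res_symm hd) hud
      obtain ⟨e, he, e', he', hde⟩ := join hm' h1
      have heR : e ∈ Δ.Res {i, j} c := Δ.mem_Res_trans hd (Δ.Pan_subset_Res hmj d he)
      obtain ⟨f', hf', f, hf, hef⟩ := join hm heR
      have huf' : u • f' = f' := (claim2 c (Δ.self_mem_Res _ c)).fix hf' hu
      have a1 : e' ∈ Δ.Pan i f := Δ.mem_Pan_trans hef he'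
      have a2 : u • e ∈ Δ.Pan j e' :=
        Δ.mem_Pan_trans hde (smul_mem_Pan (S := S) u he)
      have a3 : u • f ∈ Δ.Pan i (u • e) := smul_mem_Pan (S := S) u (Δ.mem_Pan_symm hef)
      have a4 : f ∈ Δ.Pan j (u • f) := by
        have h2 := smul_mem_Pan (S := S) u (Δ.mem_Pan_symm hf)
        rw [huf'] at h2
        exact Δ.mem_Pan_trans h2 hf
      have hude : u • e ∈ Δ.Pan j (u • d) := smul_mem_Pan (S := S) u he
      rcases closed_four hij (by omega) a1 a2 a3 a4 with ⟨h3, h4⟩ | ⟨h3, h4⟩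
      · have h5 : e = f := MulAction.injective u h4
        subst h5
        rw [← h3] at hde
        exact Δ.mem_Pan_trans he hde
      · have hfR : f ∈ Δ.Res {i, j} c := by
          refine Δ.mem_Res_trans (Δ.Pan_subset_Res hmi c hf') (Δ.Pan_subset_Res hmj f' hf)
        have h5 : u ∈ Q S H f := mem_Q_of_fix hu h4
        have h6 : u • e = e := (claim2 f hfR).fix hef h5
        rw [h6] at hude
        exact Δ.mem_Pan_trans he (Δ.mem_Pan_symm hude)
    obtain ⟨d', hd', hdd'⟩ := exists_ne hth i d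
    have hd'R : d' ∈ Δ.Res {i, j} c := Δ.mem_Res_trans hd (Δ.Pan_subset_Res hmi d hd')
    rcases closed_four hij (by omega) hd' (line d' hd'R) (smul_mem_Pan (S := S) u (Δ.mem_Pan_symm hd'))
      (Δ.mem_Pan_symm (line d hd)) with ⟨h3, -⟩ | ⟨-, h3⟩
    · exact absurd h3.symm hdd'
    · exact h3
  have hself := Δ.self_mem_Res {i, j} c
  exact claim1 c hself hc (triv_of_const (fun z hz => (claim3 z hz).symm) hself hmj)

/-- **The `A_2` lemma**: one trivial panel in a residue of type `A_2` makes all panels trivial. -/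
theorem laced_all (hth : Δ.Thick) (hH : Hyp S H) {i j : I} (hm : M i j = 3) {c : C}
    (hc : Triv S H i c ∨ Triv S H j c) : ∀ d ∈ Δ.Res {i, j} c, Triv S H i d ∧ Triv S H j d := by
  rcases hc with hc | hc
  · exact laced_aux hth hH hm hc
  · intro d hd
    have h := laced_aux hth hH (i := j) (j := i) (by rw [M.symmetric]; exact hm) hc d (by
      rwa [Set.pair_comm])
    exact ⟨h.2, h.1⟩

/-- `m_{ij} = 4`: two trivial `j`-panels on a trivial `i`-panel (and triviality of the `i`-panel on one of them) -/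
theorem four_all (hth : Δ.Thick) (hH : Hyp S H) {i j : I} (hij : i ≠ j) (hm : M i j = 4)
    (hi : ∀ z, Triv S H i z) {c c' : C} (hc' : c' ∈ Δ.Pan i c) (hne : c' ≠ c) (h1 : Triv S H j c)
    (h2 : Triv S H j c') : ∀ z ∈ Δ.Res {i, j} c, Triv S H j z := by
  obtain ⟨x, hx, hxc⟩ := exists_ne hth j c
  obtain ⟨y, hy, hyx⟩ := exists_ne hth i x
  obtain ⟨z, hz, hzc⟩ := exists_ne hth j c'
  have e1 : Δ.δ y x = cs.simple i := Δ.δ_symm_simple (hy.resolve_left hyx)
  have e2 : Δ.δ x c = cs.simple j := Δ.δ_symm_simple (hx.resolve_left hxc)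
  have e3 : Δ.δ c c' = cs.simple i := hc'.resolve_left hne
  have e4 : Δ.δ c' z = cs.simple j := hz.resolve_left hzc
  have e5 := δ_four hij hm e1 e2 e3 e4
  rw [← Generic.wJ_four cs hij hm] at e5
  have hq1 : Q S H x = Q S H c := h1 x hx
  have hq2 : Q S H y = Q S H x := hi x y hy
  have hq3 : Q S H z = Q S H y := by rw [h2 z hz, hi c c' hc', hq2, hq1]
  have h4 := opp_const hth hH e5 hq3
  have hyc : c ∈ Δ.Res {i, j} y :=
    Δ.mem_Res_trans (Δ.Pan_subset_Res (by simp) y (Δ.mem_Pan_symm hy))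
      (Δ.Pan_subset_Res (by simp) x (Δ.mem_Pan_symm hx))
  intro w hw
  exact triv_of_const h4 (Δ.mem_Res_trans hyc hw) (by simp)

end Two

end Cfsg.Agent.H331.KW.Cham
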